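import Groth.Agent.EtaleGlueLib.Thick

/-! Descent along a flat map which is an isomorphism modulo an ideal; base changed tensors. -/

set_option autoImplicit false
set_option linter.style.haveILetI false
set_option linter.unusedSectionVars false
open scoped TensorProduct

universe u

namespace Groth.Agent.EtaleGlueLib

section Descend

variable {R T : Type u} [CommRing R] [CommRing T] [Algebra R T] [Module.Flat R T] {ι : Type*} [Fintype ι] (f : ι → R)
  (hsurj : ∀ c : T, ∃ b : R, c - algebraMap R T b ∈ (Ideal.span (Set.range f)).map (algebraMap R T))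
  (hinj : ∀ b : R, algebraMap R T b ∈ (Ideal.span (Set.range f)).map (algebraMap R T) → b ∈ Ideal.span (Set.range f))
  {M N : Type u} [AddCommGroup M] [Module R M] [AddCommGroup N] [Module R N] (Φ : M →ₗ[R] N)

include hsurj hinj in
theorem mem_range_of_tmul (v : N) (z : T ⊗[R] M) (hz : LinearMap.lTensor T Φ z = 1 ⊗ₜ v)
    (hv : ∀ i, ∃ n : ℕ, f i ^ n • v ∈ LinearMap.range Φ) : ∃ m, Φ m = v := by
  have h : (LinearMap.range Φ).mkQ v = 0 := by
    refine eq_zero_of_one_tmul f hsurj hinj _ (fun i => ?_) ?_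
    · obtain ⟨n, hn⟩ := hv i
      exact ⟨n, by rw [← map_smul, Submodule.mkQ_apply, Submodule.Quotient.mk_eq_zero]; exact hn⟩
    · rw [← LinearMap.lTensor_tmul, ← hz, ← LinearMap.lTensor_comp_apply, LinearMap.range_mkQ_comp,
        LinearMap.lTensor_zero, LinearMap.zero_apply]
  rw [Submodule.mkQ_apply, Submodule.Quotient.mk_eq_zero] at h
  exact h

include hsurj in
theorem eq_one_tmul_of_ker (hker : ∀ m, Φ m = 0 → ∀ i, ∃ n : ℕ, f i ^ n • m = 0) (z : T ⊗[R] M)
    (hz : LinearMap.lTensor T Φ z = 0) : ∃ m, Φ m = 0 ∧ z = 1 ⊗ₜ m := by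
  obtain ⟨y, rfl⟩ := (Module.Flat.lTensor_exact T (LinearMap.exact_subtype_ker_map Φ) z).1 hz
  obtain ⟨m, rfl⟩ := exists_one_tmul f hsurj (M := LinearMap.ker Φ) (fun x i => by
    obtain ⟨n, hn⟩ := hker x.1 x.2 i
    exact ⟨n, Subtype.ext hn⟩) y
  exact ⟨m.1, m.2, by rw [LinearMap.lTensor_tmul]; rfl⟩

include hsurj hinj in
theorem descend (v : N) (z : T ⊗[R] M) (hz : LinearMap.lTensor T Φ z = 1 ⊗ₜ v)
    (hv : ∀ i, ∃ n : ℕ, f i ^ n • v ∈ LinearMap.range Φ) (hker : ∀ m, Φ m = 0 → ∀ i, ∃ n : ℕ, f i ^ n • m = 0) :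
    ∃ m, Φ m = v ∧ z = 1 ⊗ₜ m := by
  obtain ⟨m, rfl⟩ := mem_range_of_tmul f hsurj hinj Φ v z hz hv
  obtain ⟨m', hm', e⟩ := eq_one_tmul_of_ker f hsurj Φ hker (z - 1 ⊗ₜ m)
    (by rw [map_sub, hz, LinearMap.lTensor_tmul, sub_self])
  exact ⟨m + m', by rw [map_add, hm', add_zero], by rw [TensorProduct.tmul_add, ← e, add_sub_cancel]⟩

include hsurj in
theorem exists_decomp {N' : Type u} [AddCommGroup N'] [Module R N'] (g : N →ₗ[R] N') (hgΦ : ∀ p, g (Φ p) = 0)
    (htor : ∀ x, g x = 0 → ∀ i, ∃ n : ℕ, f i ^ n • x ∈ LinearMap.range Φ) (z : T ⊗[R] N)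
    (hz : LinearMap.lTensor T g z = 0) : ∃ m p, g m = 0 ∧ z = 1 ⊗ₜ m + LinearMap.lTensor T Φ p := by
  obtain ⟨y, rfl⟩ := (Module.Flat.lTensor_exact T (LinearMap.exact_subtype_ker_map g) z).1 hz
  let Φ' : M →ₗ[R] LinearMap.ker g := Φ.codRestrict _ fun p => LinearMap.mem_ker.2 (hgΦ p)
  obtain ⟨m', hm'⟩ := exists_one_tmul f hsurj (M := LinearMap.ker g ⧸ LinearMap.range Φ') (fun x i => by
    obtain ⟨x, rfl⟩ := Submodule.mkQ_surjective _ x
    obtain ⟨n, p, hp⟩ := htor x.1 x.2 i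
    refine ⟨n, ?_⟩
    rw [← map_smul, Submodule.mkQ_apply, Submodule.Quotient.mk_eq_zero]
    exact ⟨p, Subtype.ext hp⟩) (LinearMap.lTensor T (LinearMap.range Φ').mkQ y)
  obtain ⟨m, rfl⟩ := Submodule.mkQ_surjective _ m'
  obtain ⟨p, hp⟩ := (_root_.lTensor_exact T (LinearMap.exact_map_mkQ_range Φ') (Submodule.mkQ_surjective _)
    (y - 1 ⊗ₜ m)).1 (by rw [map_sub, hm', LinearMap.lTensor_tmul, sub_self])
  refine ⟨m.1, p, m.2, ?_⟩
  have h1 : LinearMap.lTensor T Φ p = LinearMap.lTensor T (LinearMap.ker g).subtype (LinearMap.lTensor T Φ' p) := by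
    rw [← LinearMap.lTensor_comp_apply]; rfl
  rw [h1, hp, map_sub, LinearMap.lTensor_tmul, Submodule.subtype_apply, add_sub_cancel]

end Descend

section Psi

variable {A : Type u} [CommRing A] {J : Ideal A} {R : Type u} [CommRing R] [Algebra A R]
  {C : Type u} [CommRing C] [Algebra A C] [Algebra R (C ⧸ Jm J C)] [IsScalarTower A R (C ⧸ Jm J C)]
  (hJ : J * J = ⊥)

/-- The inclusion `R → R_f` on tensors with `J`. -/
noncomputable def locJ (f : R) : (R ⊗[A] J) →ₗ[R] (Localization.Away f ⊗[A] J) :=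
  TensorProduct.AlgebraTensorModule.rTensor A J (Algebra.linearMap R (Localization.Away f))

instance (f : R) : IsLocalizedModule (Submonoid.powers f) (locJ (A := A) (J := J) f) :=
  inferInstanceAs (IsLocalizedModule (Submonoid.powers f)
    (TensorProduct.AlgebraTensorModule.rTensor A J (Algebra.linearMap R (Localization.Away f))))

theorem locJ_tmul (f : R) (r : R) (j : J) :
    locJ f (r ⊗ₜ[A] j) = algebraMap R (Localization.Away f) r ⊗ₜ j := rfl

/-- `(C / J C) ⊗_R (R ⊗ J) → C`. -/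
noncomputable def psi0 : (C ⧸ Jm J C) ⊗[R] (R ⊗[A] J) →ₗ[A] C :=
  mu hJ ∘ₗ
    ((TensorProduct.AlgebraTensorModule.cancelBaseChange A R R (C ⧸ Jm J C) J).restrictScalars A).toLinearMap

theorem psi0_tmul (c : C) (r : R) (j : J) (x : C) (hx : Ideal.Quotient.mk (Jm J C) x = algebraMap R _ r) :
    psi0 hJ (Ideal.Quotient.mk (Jm J C) c ⊗ₜ[R] (r ⊗ₜ[A] j)) = (j : A) • (c * x) := by
  rw [psi0, LinearMap.comp_apply, LinearEquiv.coe_coe, LinearEquiv.restrictScalars_apply,
    TensorProduct.AlgebraTensorModule.cancelBaseChange_tmul, Algebra.smul_def r, ← hx, ← map_mul, mu_mk, mul_comm]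

theorem psi0_mem (z : (C ⧸ Jm J C) ⊗[R] (R ⊗[A] J)) : psi0 hJ z ∈ Jm J C := mu_mem hJ _

theorem psi0_surjective {c : C} (hc : c ∈ Jm J C) :
    ∃ z : (C ⧸ Jm J C) ⊗[R] (R ⊗[A] J), psi0 hJ z = c := by
  obtain ⟨q, rfl⟩ := mu_surjective hJ hc
  exact ⟨(TensorProduct.AlgebraTensorModule.cancelBaseChange A R R (C ⧸ Jm J C) J).symm q, by simp [psi0]⟩

variable {Y : Type u} [CommRing Y] [Algebra A Y] (ρY : (C ⧸ Jm J C) →ₐ[A] Y ⧸ Jm J Y) {f : R}

theorem psi0_natural (F : C →ₐ[A] Y) (hF : ∀ t, qmap F t = ρY t) (hu : IsUnit (resT (R := R) ρY f))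
    (z : (C ⧸ Jm J C) ⊗[R] (R ⊗[A] J)) :
    F (psi0 hJ z) = kapJ ρY hJ hu (LinearMap.lTensor (C ⧸ Jm J C) (locJ f) z) := by
  induction z with
  | zero => simp
  | add a b ha hb => simp only [map_add, ha, hb]
  | tmul c p =>
    obtain ⟨c, rfl⟩ := Ideal.Quotient.mk_surjective c
    induction p with
    | zero => simp
    | add a b ha hb => simp only [TensorProduct.tmul_add, map_add, ha, hb]
    | tmul r j =>
      obtain ⟨x, hx⟩ := Ideal.Quotient.mk_surjective (algebraMap R (C ⧸ Jm J C) r)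
      rw [psi0_tmul hJ c r j x hx, LinearMap.lTensor_tmul, locJ_tmul,
        kapJ_tmul ρY hJ hu _ _ (F c) (by rw [← qmap_mk, hF]),
        muL_tmul hJ _ _ j (F x) (by
          rw [locHom_alg, ← qmap_mk, hx, hF]
          rfl),
        map_smul, map_mul, mul_smul_comm]

variable {Y' : Type u} [CommRing Y'] [Algebra A Y'] (ρY' : (C ⧸ Jm J C) →ₐ[A] Y' ⧸ Jm J Y') {f' : R}

/-- A map of localisations on tensors with `J`. -/
noncomputable def awayJ (f f' : R) (h : IsUnit (algebraMap R (Localization.Away f') f)) :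
    (Localization.Away f ⊗[A] J) →ₗ[R] (Localization.Away f' ⊗[A] J) :=
  TensorProduct.AlgebraTensorModule.rTensor A J
    (IsLocalization.liftAlgHom (M := Submonoid.powers f) (f := Algebra.ofId R (Localization.Away f')) (by
      rintro ⟨_, n, rfl⟩
      exact (by simpa using h.pow n))).toLinearMap

theorem awayJ_locJ (f f' : R) (h : IsUnit (algebraMap R (Localization.Away f') f)) (p : R ⊗[A] J) :
    awayJ f f' h (locJ f p) = locJ f' p := by
  induction p with
  | zero => simp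
  | add a b ha hb => simp only [map_add, ha, hb]
  | tmul r j =>
    rw [locJ_tmul, locJ_tmul, awayJ, TensorProduct.AlgebraTensorModule.rTensor_tmul]
    congr 1
    exact IsLocalization.lift_eq _ r

theorem muL_awayJ {X X' : Type u} [CommRing X] [Algebra A X] [CommRing X'] [Algebra A X'] (F : X →ₐ[A] X')
    (φ : Localization.Away f →ₐ[A] X ⧸ Jm J X) (φ' : Localization.Away f' →ₐ[A] X' ⧸ Jm J X')
    (h : IsUnit (algebraMap R (Localization.Away f') f))
    (hF : ∀ r, qmap F (φ (algebraMap R _ r)) = φ' (algebraMap R _ r)) (q : Localization.Away f ⊗[A] J) :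
    F (muL hJ φ q) = muL hJ φ' (awayJ f f' h q) := by
  rw [muL_natural hJ F φ φ' ((IsLocalization.liftAlgHom (M := Submonoid.powers f)
    (f := Algebra.ofId R (Localization.Away f')) (by
      rintro ⟨_, n, rfl⟩
      exact (by simpa using h.pow n))).restrictScalars A)]
  · rfl
  · intro l
    refine AlgHom.congr_fun (locHom_ext ((qmap F).comp φ) (φ'.comp ((IsLocalization.liftAlgHom
      (M := Submonoid.powers f) (f := Algebra.ofId R (Localization.Away f')) (by
        rintro ⟨_, n, rfl⟩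
        exact (by simpa using h.pow n))).restrictScalars A)) fun r => ?_) l
    rw [AlgHom.comp_apply, AlgHom.comp_apply, hF]
    exact congrArg φ' (IsLocalization.lift_eq _ r).symm

theorem kapJ_natural (F : Y →ₐ[A] Y') (hF : ∀ t, qmap F (ρY t) = ρY' t) (hu : IsUnit (resT (R := R) ρY f))
    (hu' : IsUnit (resT (R := R) ρY' f')) (h : IsUnit (algebraMap R (Localization.Away f') f))
    (z : (C ⧸ Jm J C) ⊗[R] (Localization.Away f ⊗[A] J)) :
    F (kapJ ρY hJ hu z) = kapJ ρY' hJ hu' (LinearMap.lTensor (C ⧸ Jm J C) (awayJ f f' h) z) := by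
  induction z with
  | zero => simp
  | add a b ha hb => simp only [map_add, ha, hb]
  | tmul c q =>
    obtain ⟨y, hy⟩ := Ideal.Quotient.mk_surjective (ρY c)
    rw [LinearMap.lTensor_tmul, kapJ_tmul ρY hJ hu c q y hy,
      kapJ_tmul ρY' hJ hu' c _ (F y) (by rw [← qmap_mk, hy, hF]), map_mul,
      muL_awayJ hJ F _ (locHom (resT (R := R) ρY') f' hu') h fun r => by
        rw [locHom_alg, locHom_alg]
        exact hF _]

end Psi

end Groth.Agent.EtaleGlueLib
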