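import Groth.Agent.EtaleGlueLib.Overlap

/-! The glued algebra. -/

set_option autoImplicit false
set_option linter.style.haveILetI false
set_option linter.unusedSectionVars false
open scoped TensorProduct

universe u

namespace Groth.Agent.EtaleGlueLib

variable {A : Type u} [CommRing A] {J : Ideal A} {R : Type u} [CommRing R] [Algebra A R]
  {C : Type u} [CommRing C] [Algebra A C] [Algebra R (C ⧸ Jm J C)] [IsScalarTower A R (C ⧸ Jm J C)]
  (hJ : J * J = ⊥) {ι : Type*} [Fintype ι] [DecidableEq ι] {a : ι → A} (D : ∀ i, LiftData J (fR R a i))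

/-- The localisation of `C`. -/
abbrev Yl (C : Type u) [CommRing C] [Algebra A C] (a : ι → A) (l : ι) : Type u :=
  Localization.Away (algebraMap A C (a l))

/-- The structure map of `Yl`. -/
noncomputable def rhoYT (J : Ideal A) (C : Type u) [CommRing C] [Algebra A C] (a : ι → A) (l : ι) :
    (C ⧸ Jm J C) →ₐ[A] Yl C a l ⧸ Jm J (Yl C a l) :=
  qmap (IsScalarTower.toAlgHom A C (Yl C a l))

theorem isLocAt_Y (l : ι) : IsLocAt (rhoYT J C a l) (algebraMap R (C ⧸ Jm J C) (fR R a l)) := by
  have h0 : IsLocAt (AlgHom.id A (C ⧸ Jm J C)) 1 :=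
    { isUnit := by simp
      surj := fun t => ⟨t, 0, by simp⟩
      ker := fun r hr => ⟨0, by simpa using hr⟩ }
  have h1 := h0.step (X' := Yl C a l) (a l)
  rw [one_mul] at h1
  rw [fR, ← IsScalarTower.algebraMap_apply]
  exact h1

/-- The structure map of `Yl` over `R`. -/
noncomputable abbrev rhoY (J : Ideal A) (C : Type u) [CommRing C] [Algebra A C] [Algebra R (C ⧸ Jm J C)]
    [IsScalarTower A R (C ⧸ Jm J C)] (a : ι → A) (l : ι) : R →ₐ[A] Yl C a l ⧸ Jm J (Yl C a l) :=
  resT (rhoYT J C a l)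

theorem isUnit_Y (l : ι) : IsUnit (algebraMap A (Yl C a l) (a l)) := by
  rw [IsScalarTower.algebraMap_apply A C (Yl C a l)]
  exact IsLocalization.Away.algebraMap_isUnit _

theorem isUnit_rhoY (l : ι) : IsUnit (rhoY (R := R) J C a l (fR R a l)) := unit_of_alg _ (isUnit_Y l)

/-- The map to `Yl`. -/
noncomputable def phi (l : ι) : (D l).X →ₐ[A] Yl C a l := ftA hJ D l (rhoY J C a l) (isUnit_Y l)

/-- The glued algebra. -/
noncomputable def glue : Subalgebra A (C × ∀ i, (D i).X) where
  carrier := {x | Compat hJ D x.2 ∧ ∀ l, algebraMap C (Yl C a l) x.1 = phi hJ D l (x.2 l)}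
  mul_mem' {x y} hx hy := ⟨fun i j => by
    rw [Prod.snd_mul, Pi.mul_apply, Pi.mul_apply, map_mul, map_mul, hx.1 i j, hy.1 i j],
    fun l => by rw [Prod.snd_mul, Prod.fst_mul, Pi.mul_apply, map_mul, map_mul, hx.2 l, hy.2 l]⟩
  add_mem' {x y} hx hy := ⟨fun i j => by
    rw [Prod.snd_add, Pi.add_apply, Pi.add_apply, map_add, map_add, hx.1 i j, hy.1 i j],
    fun l => by rw [Prod.snd_add, Prod.fst_add, Pi.add_apply, map_add, map_add, hx.2 l, hy.2 l]⟩
  algebraMap_mem' c := ⟨fun i j => by
    change al D i j (algebraMap A _ c) = be hJ D i j (algebraMap A _ c)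
    rw [AlgHom.commutes, AlgHom.commutes],
    fun l => by
    change algebraMap C (Yl C a l) (algebraMap A C c) = phi hJ D l (algebraMap A _ c)
    rw [AlgHom.commutes, ← IsScalarTower.algebraMap_apply]⟩

/-- First projection. -/
noncomputable def glueFst : glue (C := C) hJ D →ₐ[A] C := (AlgHom.fst A C (∀ i, (D i).X)).comp (Subalgebra.val _)

/-- Second projection. -/
noncomputable def glueSnd (i : ι) : glue (C := C) hJ D →ₐ[A] (D i).X :=
  ((Pi.evalAlgHom A (fun i => (D i).X) i).comp (AlgHom.snd A C (∀ i, (D i).X))).comp (Subalgebra.val _)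

theorem glue_al (x : glue (C := C) hJ D) (i j : ι) :
    al D i j (glueSnd hJ D i x) = be hJ D i j (glueSnd hJ D j x) := x.2.1 i j

theorem glue_phi (x : glue (C := C) hJ D) (l : ι) :
    algebraMap C (Yl C a l) (glueFst hJ D x) = phi hJ D l (glueSnd hJ D l x) := x.2.2 l

theorem glue_ext {x y : glue (C := C) hJ D} (h1 : glueFst hJ D x = glueFst hJ D y)
    (h2 : ∀ i, glueSnd hJ D i x = glueSnd hJ D i y) : x = y :=
  Subtype.ext (Prod.ext h1 (funext h2))

theorem glue_exists_ext (i : ι) (y : (D i).X) :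
    ∃ (n : ℕ) (x : glue (C := C) hJ D), glueSnd hJ D i x = algebraMap A _ (a i) ^ n * y := by
  choose x n hx using fun j => exists_be hJ D i j (al D i j y)
  let N := Finset.univ.sup n
  obtain ⟨x', hx'⟩ : ∃ x' : ∀ j, (D j).X, ∀ j, al D i j (algebraMap A _ (a i) ^ N * y) = be hJ D i j (x' j) := by
    refine ⟨fun j => algebraMap A _ (a i) ^ (N - n j) * x j, fun j => ?_⟩
    simp only [map_mul, map_pow, AlgHom.commutes, ← hx j]
    rw [mul_left_comm, ← pow_add, Nat.sub_add_cancel (Finset.le_sup (f := n) (Finset.mem_univ j)), mul_comm]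
  have hxi : x' i = algebraMap A _ (a i) ^ N * y := al_self_injective hJ D i (by rw [hx' i, be_self])
  have hd : ∀ j l, ∃ m : ℕ, algebraMap A _ (a i) ^ m * (al D j l (x' j) - be hJ D j l (x' l)) = 0 := by
    intro j l
    refine exists_pow_smul_of_away_eq_zero (a i) ?_
    let X' := Localization.Away (algebraMap A (W D j l) (a i))
    have hu : ∀ k, IsUnit (algebraMap A (W D j l) (a k)) → IsUnit (algebraMap A X' (a k)) := fun k hk => by
      rw [IsScalarTower.algebraMap_apply A (W D j l) X']; exact hk.map _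
    have hi' : IsUnit (algebraMap A X' (a i)) := by
      rw [IsScalarTower.algebraMap_apply A (W D j l) X']
      exact IsLocalization.Away.algebraMap_isUnit _
    let ρ' : R →ₐ[A] X' ⧸ Jm J X' := rhoStep X' (rhoW D j l)
    let F := IsScalarTower.toAlgHom A (W D j l) X'
    change F (al D j l (x' j) - be hJ D j l (x' l)) = 0
    rw [map_sub, sub_eq_zero, al_eq hJ D j l, be,
      comp_ftA hJ D j _ _ F ρ' (hu j (isUnit_W_left hJ D j l)) (fun r => rfl),
      comp_ftA hJ D l _ _ F ρ' (hu l (isUnit_W_right D j l)) (fun r => rfl),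
      ← ft_compat hJ D ρ' i j hi' _ (hx' j), ← ft_compat hJ D ρ' i l hi' _ (hx' l)]
  obtain ⟨p, c, hc⟩ := IsLocalization.Away.surj (algebraMap A C (a i))
    (phi hJ D i (algebraMap A _ (a i) ^ N * y) : Yl C a i)
  have hdC : ∀ l, ∃ m : ℕ, algebraMap A _ (a i) ^ m *
      (algebraMap C (Yl C a l) c - phi hJ D l (algebraMap A _ (a i) ^ p * x' l)) = 0 := by
    intro l
    refine exists_pow_smul_of_away_eq_zero (a i) ?_
    let X' := Localization.Away (algebraMap A (Yl C a l) (a i))
    have hi' : IsUnit (algebraMap A X' (a i)) := by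
      rw [IsScalarTower.algebraMap_apply A (Yl C a l) X']
      exact IsLocalization.Away.algebraMap_isUnit _
    have hl' : IsUnit (algebraMap A X' (a l)) := by
      rw [IsScalarTower.algebraMap_apply A (Yl C a l) X']; exact (isUnit_Y l).map _
    let ρ' : R →ₐ[A] X' ⧸ Jm J X' := rhoStep X' (rhoY J C a l)
    let F := IsScalarTower.toAlgHom A (Yl C a l) X'
    let G : Yl C a i →ₐ[A] X' :=
      IsLocalization.liftAlgHom (M := Submonoid.powers (algebraMap A C (a i)))
        (f := F.comp (IsScalarTower.toAlgHom A C (Yl C a l))) (by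
        rintro ⟨_, k, rfl⟩
        rw [map_pow, AlgHom.commutes]
        exact hi'.pow k)
    have hG : ∀ z, G (algebraMap C (Yl C a i) z) = F (algebraMap C (Yl C a l) z) := fun z => IsLocalization.lift_eq _ z
    have hGρ : ∀ r, qmap G (rhoY J C a i r) = ρ' r := by
      intro r
      obtain ⟨z, hz⟩ := Ideal.Quotient.mk_surjective (algebraMap R (C ⧸ Jm J C) r)
      change qmap G (qmap _ (algebraMap R (C ⧸ Jm J C) r)) = qmap F (qmap _ (algebraMap R (C ⧸ Jm J C) r))
      rw [← hz]
      exact congrArg (Ideal.Quotient.mk _) (hG z)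
    change F _ = 0
    rw [map_sub, sub_eq_zero, ← hG, ← hc, map_mul G, map_pow G, phi, phi,
      comp_ftA hJ D i _ _ G ρ' hi' hGρ, comp_ftA hJ D l _ _ F ρ' hl' (fun r => rfl),
      ← IsScalarTower.algebraMap_apply, AlgHom.commutes, map_mul (ftA hJ D l ρ' hl'), map_pow, AlgHom.commutes,
      ← ft_compat hJ D ρ' i l hi' hl' (hx' l), mul_comm]
  choose m hm using hd
  choose m' hm' using hdC
  obtain ⟨Q, hQ, hQ'⟩ : ∃ Q, (∀ j l, m j l ≤ Q) ∧ ∀ l, m' l ≤ Q :=
    ⟨(Finset.univ.sup fun q : ι × ι => m q.1 q.2) + Finset.univ.sup m',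
      fun j l => (Finset.le_sup (f := fun q : ι × ι => m q.1 q.2) (Finset.mem_univ (j, l))).trans (Nat.le_add_right _ _),
      fun l => (Finset.le_sup (f := m') (Finset.mem_univ l)).trans (Nat.le_add_left _ _)⟩
  refine ⟨Q + p + N, ⟨(algebraMap A C (a i) ^ Q * c, fun l => algebraMap A _ (a i) ^ (Q + p) * x' l),
    fun j l => ?_, fun l => ?_⟩, ?_⟩
  · change al D j l (_ * x' j) = be hJ D j l (_ * x' l)
    rw [map_mul, map_mul, map_pow, map_pow, AlgHom.commutes, AlgHom.commutes, ← sub_eq_zero, ← mul_sub,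
      pow_add, ← Nat.sub_add_cancel (hQ j l), pow_add]
    linear_combination (algebraMap A (W D j l) (a i) ^ (Q - m j l) * algebraMap A (W D j l) (a i) ^ p) * hm j l
  · change algebraMap C (Yl C a l) (_ * c) = phi hJ D l (_ * x' l)
    rw [map_mul, map_pow, ← IsScalarTower.algebraMap_apply, ← sub_eq_zero, pow_add, mul_assoc, map_mul, map_pow,
      AlgHom.commutes, ← mul_sub, ← Nat.sub_add_cancel (hQ' l), pow_add, mul_assoc, hm' l, mul_zero]
  · change algebraMap A _ (a i) ^ (Q + p) * x' i = _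
    rw [hxi, ← mul_assoc, ← pow_add]

theorem glue_sep (i : ι) (x : glue (C := C) hJ D) (h : glueSnd hJ D i x = 0) :
    ∃ n : ℕ, algebraMap A _ (a i) ^ n * x = 0 := by
  obtain ⟨n, hn⟩ := exists_pow_smul_of_away_eq_zero (a i) (X := C) (x := glueFst hJ D x)
    ((glue_phi hJ D x i).trans (by rw [h, map_zero]))
  choose m hm using fun j => be_eq_zero hJ D i j (x := glueSnd hJ D j x) (by rw [← glue_al, h, map_zero])
  refine ⟨n + Finset.univ.sup m, glue_ext hJ D ?_ fun j => ?_⟩
  · rw [map_mul, map_pow, AlgHom.commutes, map_zero, pow_add, mul_comm (algebraMap A C (a i) ^ n), mul_assoc, hn,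
      mul_zero]
  · rw [map_mul, map_pow, AlgHom.commutes, map_zero,
      ← Nat.sub_add_cancel (show m j ≤ n + Finset.univ.sup m from
        (Finset.le_sup (f := m) (Finset.mem_univ j)).trans (Nat.le_add_left _ _)),
      pow_add, mul_assoc, hm j, mul_zero]

end Groth.Agent.EtaleGlueLib
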