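import Groth.Agent.EtaleGlueLib.SquareZero
import Mathlib.RingTheory.Ideal.Quotient.Noetherian
import Mathlib.RingTheory.Ideal.Over
import Mathlib.RingTheory.Etale.Basic

/-! Étale lifting along a nilpotent ideal. -/

set_option autoImplicit false
set_option linter.style.haveILetI false
set_option linter.unusedSectionVars false
open scoped TensorProduct

universe u

namespace Groth.Agent.EtaleGlueLib

theorem etale_away_quotient {A : Type u} [CommRing A] (K : Ideal A) (C : Type u) [CommRing C] [Algebra A C] (c : A)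
    [Algebra.Etale A (Localization.Away (algebraMap A C c))] :
    Algebra.Etale (A ⧸ K) (Localization.Away (algebraMap A (C ⧸ Jm K C) c)) := by
  let X := Localization.Away (algebraMap A C c)
  let Y := Localization.Away (algebraMap A (C ⧸ Jm K C) c)
  let P := (A ⧸ K) ⊗[A] X
  let π : C →ₐ[A] Y := (IsScalarTower.toAlgHom A (C ⧸ Jm K C) Y).comp (Ideal.Quotient.mkₐ A (Jm K C))
  have hπ : IsUnit (π (algebraMap A C c)) := by
    rw [π.commutes, IsScalarTower.algebraMap_apply A (C ⧸ Jm K C) Y]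
    exact IsLocalization.Away.algebraMap_isUnit _
  let gX : X →ₐ[A] Y := IsLocalization.liftAlgHom (M := Submonoid.powers (algebraMap A C c)) (f := π) (by
    rintro ⟨_, n, rfl⟩
    rw [map_pow]; exact hπ.pow n)
  let F : P →ₐ[A ⧸ K] Y := Algebra.TensorProduct.lift (Algebra.ofId (A ⧸ K) Y) gX (fun _ _ => Commute.all _ _)
  let ι : C →ₐ[A] P := (Algebra.TensorProduct.includeRight : X →ₐ[A] P).comp (IsScalarTower.toAlgHom A C X)
  have hι : ∀ z ∈ Jm K C, ι z = 0 := by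
    suffices h : Jm K C ≤ RingHom.ker ι from fun z hz => h hz
    rw [Ideal.map_le_iff_le_comap]
    intro k hk
    rw [Ideal.mem_comap, RingHom.mem_ker, ι.commutes, IsScalarTower.algebraMap_apply A (A ⧸ K) P,
      Ideal.Quotient.algebraMap_eq, Ideal.Quotient.eq_zero_iff_mem.2 hk, map_zero]
  let g : (C ⧸ Jm K C) →ₐ[A] P := Ideal.Quotient.liftₐ (Jm K C) ι hι
  have hg : IsUnit (g (algebraMap A (C ⧸ Jm K C) c)) := by
    have h := (IsLocalization.Away.algebraMap_isUnit (S := X) (algebraMap A C c)).map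
      (Algebra.TensorProduct.includeRight : X →ₐ[A] P)
    rw [g.commutes, ← ι.commutes]
    exact h
  let G : Y →ₐ[A] P := IsLocalization.liftAlgHom (M := Submonoid.powers (algebraMap A (C ⧸ Jm K C) c)) (f := g) (by
    rintro ⟨_, n, rfl⟩
    rw [map_pow]; exact hg.pow n)
  have hG : ∀ t, G (algebraMap (C ⧸ Jm K C) Y t) = g t := fun t => IsLocalization.lift_eq _ t
  have hgX : ∀ z, gX (algebraMap C X z) = algebraMap (C ⧸ Jm K C) Y (Ideal.Quotient.mk _ z) := fun z =>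
    IsLocalization.lift_eq _ z
  have h1 : (F.restrictScalars A).comp G = AlgHom.id A Y := by
    refine IsLocalization.algHom_ext (Submonoid.powers (algebraMap A (C ⧸ Jm K C) c)) (AlgHom.ext fun t => ?_)
    obtain ⟨z, rfl⟩ := Ideal.Quotient.mk_surjective t
    change F (G (algebraMap _ Y (Ideal.Quotient.mk _ z))) = algebraMap _ Y (Ideal.Quotient.mk _ z)
    rw [hG]
    change Algebra.ofId (A ⧸ K) Y 1 * gX (algebraMap C X z) = _
    rw [map_one, one_mul, hgX]
  have h2 : G.comp gX = (Algebra.TensorProduct.includeRight : X →ₐ[A] P) := by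
    refine IsLocalization.algHom_ext (Submonoid.powers (algebraMap A C c)) (AlgHom.ext fun z => ?_)
    change G (gX (algebraMap C X z)) = _
    rw [hgX, hG]
    rfl
  have h3 : ∀ p, G (F p) = p := by
    intro (p : (A ⧸ K) ⊗[A] X)
    induction p using TensorProduct.induction_on with
    | zero => rw [map_zero, map_zero]
    | add p q hp hq => rw [map_add, map_add, hp, hq]
    | tmul r x =>
      obtain ⟨r, rfl⟩ := Ideal.Quotient.mk_surjective r
      rw [Algebra.TensorProduct.lift_tmul, map_mul, show G (gX x) = _ from DFunLike.congr_fun h2 x,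
        show Algebra.ofId (A ⧸ K) Y (Ideal.Quotient.mk K r) = algebraMap A Y r from
          (IsScalarTower.algebraMap_apply A (A ⧸ K) Y r).symm, G.commutes, Algebra.TensorProduct.includeRight_apply,
        Algebra.TensorProduct.algebraMap_apply, Algebra.TensorProduct.tmul_mul_tmul, one_mul, mul_one]
      rfl
  exact Algebra.Etale.of_equiv (AlgEquiv.ofBijective F ⟨Function.LeftInverse.injective (g := G) h3,
    fun y => ⟨G y, DFunLike.congr_fun h1 y⟩⟩)

theorem etale_of_base_bijective {S S' X : Type u} [CommRing S] [CommRing S'] [CommRing X] [Algebra S S'] [Algebra S X]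
    [Algebra S' X] [IsScalarTower S S' X] (h : Function.Bijective (algebraMap S S')) [Algebra.Etale S' X] :
    Algebra.Etale S X := by
  haveI : Algebra.Etale S S' := Algebra.Etale.of_equiv (AlgEquiv.ofBijective (Algebra.ofId S S') h)
  exact Algebra.Etale.comp S S' X

theorem etale_quot_quot {A : Type u} [CommRing A] {J K : Ideal A} (h : K ≤ J) (R : Type u) [CommRing R] [Algebra A R]
    [Algebra (A ⧸ J) R] [IsScalarTower A (A ⧸ J) R] [Algebra ((A ⧸ K) ⧸ J.map (Ideal.Quotient.mk K)) R]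
    [IsScalarTower A ((A ⧸ K) ⧸ J.map (Ideal.Quotient.mk K)) R] (r : R)
    [Algebra.Etale (A ⧸ J) (Localization.Away r)] :
    Algebra.Etale ((A ⧸ K) ⧸ J.map (Ideal.Quotient.mk K)) (Localization.Away r) := by
  let e := DoubleQuot.quotQuotEquivQuotOfLE h
  letI : Algebra ((A ⧸ K) ⧸ J.map (Ideal.Quotient.mk K)) (A ⧸ J) := e.toRingHom.toAlgebra
  haveI : IsScalarTower ((A ⧸ K) ⧸ J.map (Ideal.Quotient.mk K)) (A ⧸ J) (Localization.Away r) :=
    IsScalarTower.of_algebraMap_eq fun x => by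
      obtain ⟨x, rfl⟩ := Ideal.Quotient.mk_surjective x
      obtain ⟨x, rfl⟩ := Ideal.Quotient.mk_surjective x
      rw [show algebraMap ((A ⧸ K) ⧸ J.map (Ideal.Quotient.mk K)) (A ⧸ J)
          (Ideal.Quotient.mk _ (Ideal.Quotient.mk K x)) = algebraMap A (A ⧸ J) x from
            DoubleQuot.quotQuotEquivQuotOfLE_quotQuotMk x h,
        show Ideal.Quotient.mk (J.map (Ideal.Quotient.mk K)) (Ideal.Quotient.mk K x) =
          algebraMap A ((A ⧸ K) ⧸ J.map (Ideal.Quotient.mk K)) x from rfl,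
        ← IsScalarTower.algebraMap_apply, ← IsScalarTower.algebraMap_apply]
  exact etale_of_base_bijective (S' := A ⧸ J) e.bijective

theorem exists_quotQuotEquiv {C : Type u} [CommRing C] {P Q : Ideal C} (h : P ≤ Q) {M : Ideal (C ⧸ P)}
    (hM : M = Q.map (Ideal.Quotient.mk P)) :
    ∃ e : (C ⧸ P) ⧸ M ≃+* C ⧸ Q, ∀ z, e (Ideal.Quotient.mk M z) = Ideal.Quotient.factor h z := by
  subst hM
  refine ⟨DoubleQuot.quotQuotEquivQuotOfLE h, fun z => ?_⟩
  obtain ⟨z, rfl⟩ := Ideal.Quotient.mk_surjective z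
  exact DoubleQuot.quotQuotEquivQuotOfLE_quotQuotMk _ h

/-- One square-zero step over `A / K`, viewed over `A`. -/
theorem step {A : Type u} [CommRing A] [IsNoetherianRing A] {I J K : Ideal A} (hKJ : K ≤ J) (hJK : J * J ≤ K)
    {C : Type u} [CommRing C] [Algebra A C] (hC : ∀ a ∈ I, Algebra.Etale A (Localization.Away (algebraMap A C a)))
    {R : Type u} [CommRing R] [Algebra A R] [Algebra (A ⧸ J) R] [IsScalarTower A (A ⧸ J) R] [Algebra.FiniteType A R]
    (hRet : ∀ a ∈ I, Algebra.Etale (A ⧸ J) (Localization.Away (algebraMap A R a)))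
    [Algebra R (C ⧸ Jm J C)] [IsScalarTower A R (C ⧸ Jm J C)] [Algebra.Etale R (C ⧸ Jm J C)]
    (h3s : ∀ c : C ⧸ Jm J C, ∃ r : R, algebraMap R (C ⧸ Jm J C) r - c ∈ I.map (algebraMap A (C ⧸ Jm J C)))
    (h3i : ∀ r : R, algebraMap R (C ⧸ Jm J C) r ∈ I.map (algebraMap A (C ⧸ Jm J C)) → r ∈ I.map (algebraMap A R)) :
    ∃ (B₁ : Type u) (_ : CommRing B₁) (_ : Algebra A B₁) (_ : Algebra (A ⧸ K) B₁) (_ : IsScalarTower A (A ⧸ K) B₁)
      (_ : Algebra B₁ (C ⧸ Jm K C)) (_ : IsScalarTower A B₁ (C ⧸ Jm K C)) (q : B₁ →ₐ[A] R),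
      Algebra.FiniteType A B₁ ∧ Algebra.Etale B₁ (C ⧸ Jm K C) ∧
      (∀ a ∈ I, Algebra.Etale (A ⧸ K) (Localization.Away (algebraMap A B₁ a))) ∧
      Function.Surjective q ∧ RingHom.ker q = Jm J B₁ ∧
      (∀ b : B₁, algebraMap R (C ⧸ Jm J C) (q b) =
        Ideal.Quotient.factor (Ideal.map_mono hKJ) (algebraMap B₁ (C ⧸ Jm K C) b)) ∧
      (∀ c : C ⧸ Jm K C, ∃ b : B₁, algebraMap B₁ (C ⧸ Jm K C) b - c ∈ I.map (algebraMap A (C ⧸ Jm K C))) ∧
      ∀ b : B₁, algebraMap B₁ (C ⧸ Jm K C) b ∈ I.map (algebraMap A (C ⧸ Jm K C)) → b ∈ I.map (algebraMap A B₁) := by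
  have hJb : J.map (Ideal.Quotient.mk K) * J.map (Ideal.Quotient.mk K) = ⊥ := by
    rw [← Ideal.map_mul, eq_bot_iff, ← Ideal.map_quotient_self K]
    exact Ideal.map_mono hJK
  have hR0 : ∀ k ∈ J, algebraMap A R k = 0 := fun k hk => by
    rw [IsScalarTower.algebraMap_apply A (A ⧸ J) R, Ideal.Quotient.algebraMap_eq,
      Ideal.Quotient.eq_zero_iff_mem.2 hk, map_zero]
  let φ : A ⧸ K →+* R := Ideal.Quotient.lift K (algebraMap A R) fun k hk => hR0 k (hKJ hk)
  letI : Algebra (A ⧸ K) R := φ.toAlgebra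
  haveI : IsScalarTower A (A ⧸ K) R := IsScalarTower.of_algebraMap_eq fun _ => rfl
  have hφ : ∀ x ∈ J.map (Ideal.Quotient.mk K), φ x = 0 := by
    intro x hx
    obtain ⟨x, hx', rfl⟩ := (Ideal.mem_map_iff_of_surjective _ Ideal.Quotient.mk_surjective).1 hx
    exact hR0 x hx'
  letI : Algebra ((A ⧸ K) ⧸ J.map (Ideal.Quotient.mk K)) R := (Ideal.Quotient.lift _ φ hφ).toAlgebra
  haveI : IsScalarTower (A ⧸ K) ((A ⧸ K) ⧸ J.map (Ideal.Quotient.mk K)) R :=
    IsScalarTower.of_algebraMap_eq (R := A ⧸ K) (S := (A ⧸ K) ⧸ J.map (Ideal.Quotient.mk K)) (A := R) fun _ => rfl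
  haveI : IsScalarTower A ((A ⧸ K) ⧸ J.map (Ideal.Quotient.mk K)) R :=
    IsScalarTower.of_algebraMap_eq (R := A) (S := (A ⧸ K) ⧸ J.map (Ideal.Quotient.mk K)) (A := R) fun _ => rfl
  haveI : Algebra.FiniteType (A ⧸ K) R := Algebra.FiniteType.of_restrictScalars_finiteType A (A ⧸ K) R
  have hRet' : ∀ a ∈ I.map (Ideal.Quotient.mk K), Algebra.Etale ((A ⧸ K) ⧸ J.map (Ideal.Quotient.mk K))
      (Localization.Away (algebraMap (A ⧸ K) R a)) := by
    intro a ha
    obtain ⟨a, ha', rfl⟩ := (Ideal.mem_map_iff_of_surjective _ Ideal.Quotient.mk_surjective).1 ha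
    haveI := hRet a ha'
    exact etale_quot_quot hKJ R (algebraMap A R a)
  have hCb : ∀ a ∈ I.map (Ideal.Quotient.mk K),
      Algebra.Etale (A ⧸ K) (Localization.Away (algebraMap (A ⧸ K) (C ⧸ Jm K C) a)) := by
    intro a ha
    obtain ⟨a, ha', rfl⟩ := (Ideal.mem_map_iff_of_surjective _ Ideal.Quotient.mk_surjective).1 ha
    haveI := hC a ha'
    exact etale_away_quotient K C a
  have hm : Jm (J.map (Ideal.Quotient.mk K)) (C ⧸ Jm K C) = (Jm J C).map (Ideal.Quotient.mk (Jm K C)) := by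
    change (J.map (Ideal.Quotient.mk K)).map (algebraMap (A ⧸ K) (C ⧸ Jm K C)) =
      (J.map (algebraMap A C)).map (Ideal.Quotient.mk (Jm K C))
    rw [Ideal.map_map, Ideal.map_map]
    rfl
  obtain ⟨eC, heC⟩ := exists_quotQuotEquiv (Ideal.map_mono hKJ) hm
  letI : Algebra R ((C ⧸ Jm K C) ⧸ Jm (J.map (Ideal.Quotient.mk K)) (C ⧸ Jm K C)) :=
    (eC.symm.toRingHom.comp (algebraMap R (C ⧸ Jm J C))).toAlgebra
  have heA : ∀ x : A, eC.symm (algebraMap A (C ⧸ Jm J C) x) =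
      algebraMap (A ⧸ K) ((C ⧸ Jm K C) ⧸ Jm (J.map (Ideal.Quotient.mk K)) (C ⧸ Jm K C)) (Ideal.Quotient.mk K x) :=
    fun x => by
      rw [RingEquiv.symm_apply_eq]
      exact (heC (Ideal.Quotient.mk _ (algebraMap A C x))).symm
  haveI : IsScalarTower (A ⧸ K) R ((C ⧸ Jm K C) ⧸ Jm (J.map (Ideal.Quotient.mk K)) (C ⧸ Jm K C)) :=
    IsScalarTower.of_algebraMap_eq (R := A ⧸ K) (S := R)
      (A := (C ⧸ Jm K C) ⧸ Jm (J.map (Ideal.Quotient.mk K)) (C ⧸ Jm K C)) fun x => by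
      obtain ⟨x, rfl⟩ := Ideal.Quotient.mk_surjective x
      rw [← heA x]
      exact congrArg eC.symm (IsScalarTower.algebraMap_apply A R (C ⧸ Jm J C) x)
  haveI : Algebra.Etale R ((C ⧸ Jm K C) ⧸ Jm (J.map (Ideal.Quotient.mk K)) (C ⧸ Jm K C)) :=
    Algebra.Etale.of_equiv (AlgEquiv.ofRingEquiv (f := eC.symm) (fun _ => rfl) :
      (C ⧸ Jm J C) ≃ₐ[R] (C ⧸ Jm K C) ⧸ Jm (J.map (Ideal.Quotient.mk K)) (C ⧸ Jm K C))
  have hI1 : (I.map (Ideal.Quotient.mk K)).map
      (algebraMap (A ⧸ K) ((C ⧸ Jm K C) ⧸ Jm (J.map (Ideal.Quotient.mk K)) (C ⧸ Jm K C))) =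
      (I.map (algebraMap A (C ⧸ Jm J C))).map eC.symm.toRingHom := by
    rw [Ideal.map_map, Ideal.map_map]
    congr 1
    exact RingHom.ext fun x => (heA x).symm
  have hI2 : (I.map (Ideal.Quotient.mk K)).map (algebraMap (A ⧸ K) R) = I.map (algebraMap A R) := by
    rw [Ideal.map_map]; rfl
  have hI3 : (I.map (Ideal.Quotient.mk K)).map (algebraMap (A ⧸ K) (C ⧸ Jm K C)) =
      I.map (algebraMap A (C ⧸ Jm K C)) := by
    rw [Ideal.map_map]; rfl
  obtain ⟨B₁, _, _, _, _, _, _, hB₁ft, hB₁C, hB₁et, hq, hker, hcomp, hs, hi⟩ :=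
    square_zero (A ⧸ K) (I.map (Ideal.Quotient.mk K)) (J.map (Ideal.Quotient.mk K)) hJb (C ⧸ Jm K C) hCb R hRet'
      (fun c => by
        obtain ⟨r, hr⟩ := h3s (eC c)
        refine ⟨r, ?_⟩
        rw [hI1]
        convert Ideal.mem_map_of_mem eC.symm.toRingHom hr using 1
        exact ((map_sub eC.symm _ _).trans (congrArg (_ - ·) (eC.symm_apply_apply c))).symm)
      (fun r hr => by
        rw [hI2]
        refine h3i r ?_
        rw [hI1, Ideal.mem_map_iff_of_surjective eC.symm.toRingHom eC.symm.surjective] at hr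
        obtain ⟨w, hw, hw'⟩ := hr
        exact (eC.symm.injective hw' : w = _) ▸ hw)
  letI : Algebra A B₁ := ((algebraMap (A ⧸ K) B₁).comp (Ideal.Quotient.mk K)).toAlgebra
  haveI : IsScalarTower A (A ⧸ K) B₁ := IsScalarTower.of_algebraMap_eq fun _ => rfl
  haveI : IsScalarTower A B₁ (C ⧸ Jm K C) := IsScalarTower.of_algebraMap_eq fun x =>
    (IsScalarTower.algebraMap_apply A (A ⧸ K) (C ⧸ Jm K C) x).trans
      (IsScalarTower.algebraMap_apply (A ⧸ K) B₁ (C ⧸ Jm K C) (Ideal.Quotient.mk K x))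
  have hI4 : (I.map (Ideal.Quotient.mk K)).map (algebraMap (A ⧸ K) B₁) = I.map (algebraMap A B₁) := by
    rw [Ideal.map_map]; rfl
  let q : B₁ →ₐ[A] R :=
    { algebraMap B₁ R with
      commutes' := fun x => (IsScalarTower.algebraMap_apply (A ⧸ K) B₁ R (Ideal.Quotient.mk K x)).symm }
  refine ⟨B₁, inferInstance, inferInstance, inferInstance, inferInstance, inferInstance, inferInstance, q,
    Algebra.FiniteType.trans (S := A ⧸ K) inferInstance hB₁ft, hB₁C,
    fun a ha => hB₁et (Ideal.Quotient.mk K a) (Ideal.mem_map_of_mem _ ha), hq, ?_, fun b => ?_, ?_, ?_⟩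
  · refine hker.trans ?_
    change (J.map (Ideal.Quotient.mk K)).map (algebraMap (A ⧸ K) B₁) = J.map (algebraMap A B₁)
    rw [Ideal.map_map]; rfl
  · rw [← heC]
    exact (eC.symm_apply_eq).1 (hcomp b)
  · intro c
    rw [← hI3]; exact hs c
  · intro b hb
    rw [← hI4]; exact hi b (hI3 ▸ hb)

theorem lift_nilpotent (A : Type u) [CommRing A] [IsNoetherianRing A] (I : Ideal A) (C : Type u) [CommRing C]
    [Algebra A C] (hC : ∀ a ∈ I, Algebra.Etale A (Localization.Away (algebraMap A C a))) (N : ℕ) :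
    ∀ (J : Ideal A), J ^ N = ⊥ → ∀ (R : Type u) [CommRing R] [Algebra A R] [Algebra (A ⧸ J) R]
      [IsScalarTower A (A ⧸ J) R] [Algebra.FiniteType A R],
      (∀ a ∈ I, Algebra.Etale (A ⧸ J) (Localization.Away (algebraMap A R a))) →
      ∀ [Algebra R (C ⧸ Jm J C)] [IsScalarTower A R (C ⧸ Jm J C)] [Algebra.Etale R (C ⧸ Jm J C)],
      (∀ c : C ⧸ Jm J C, ∃ r : R, algebraMap R (C ⧸ Jm J C) r - c ∈ I.map (algebraMap A (C ⧸ Jm J C))) →
      (∀ r : R, algebraMap R (C ⧸ Jm J C) r ∈ I.map (algebraMap A (C ⧸ Jm J C)) → r ∈ I.map (algebraMap A R)) →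
      Concl A I J C R := by
  induction N using Nat.strong_induction_on with
  | _ N ih => ?_
  intro J hN R _ _ _ _ _ hRet _ _ _ h3s h3i
  rcases le_or_gt N 2 with hN2 | hN2
  · refine square_zero A I J ?_ C hC R hRet h3s h3i
    rw [← pow_two, eq_bot_iff, ← hN]
    exact Ideal.pow_le_pow_right hN2
  have hJ2 : J ^ 2 ≤ J := Ideal.pow_le_self two_ne_zero
  obtain ⟨B₁, _, _, _, _, _, _, q₁, hft₁, het₁, hetA₁, hq₁, hker₁, hcomp₁, hs₁, hi₁⟩ :=
    step hJ2 (le_of_eq (pow_two J).symm) hC hRet h3s h3i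
  have hK : (J ^ 2) ^ (N - 1) = ⊥ := by
    rw [← pow_mul, eq_bot_iff, ← hN]
    exact Ideal.pow_le_pow_right (by omega)
  obtain ⟨B, _, _, _, _, _, _, hBft, hBC, hBet, hq₂, hker₂, hcomp₂, hBs, hBi⟩ :=
    ih (N - 1) (by omega) (J ^ 2) hK B₁ hetA₁ hs₁ hi₁
  let q : B →+* R := (q₁ : B₁ →+* R).comp (algebraMap B B₁)
  letI : Algebra B R := q.toAlgebra
  haveI : IsScalarTower A B R := IsScalarTower.of_algebraMap_eq fun x => by
    change algebraMap A R x = q₁ (algebraMap B B₁ (algebraMap A B x))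
    rw [← IsScalarTower.algebraMap_apply A B B₁, q₁.commutes]
  refine ⟨B, inferInstance, inferInstance, inferInstance, inferInstance, inferInstance, inferInstance, hBft, hBC, hBet,
    hq₁.comp hq₂, ?_, fun b => ?_, hBs, hBi⟩
  · change RingHom.ker q = _
    have h : Jm J B₁ = (Jm J B).map (algebraMap B B₁) := by
      change J.map (algebraMap A B₁) = (J.map (algebraMap A B)).map (algebraMap B B₁)
      rw [Ideal.map_map, ← IsScalarTower.algebraMap_eq]
    rw [← RingHom.comap_ker, show RingHom.ker (q₁ : B₁ →+* R) = Jm J B₁ from hker₁, h,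
      Ideal.comap_map_of_surjective _ hq₂, ← RingHom.ker_eq_comap_bot, hker₂]
    exact sup_eq_left.2 (Ideal.map_mono hJ2)
  · change algebraMap R (C ⧸ Jm J C) (q₁ (algebraMap B B₁ b)) = _
    rw [hcomp₁, hcomp₂]
    rfl

end Groth.Agent.EtaleGlueLib
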