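import Groth.Agent.EtaleGlueLib.Proj

/-! The projection of the glued algebra is surjective with kernel `J B`. -/

set_option autoImplicit false
set_option linter.style.haveILetI false
set_option linter.unusedSectionVars false
open scoped TensorProduct

universe u

namespace Groth.Agent.EtaleGlueLib

variable {A : Type u} [CommRing A] {J : Ideal A} {R : Type u} [CommRing R] [Algebra A R]
  {C : Type u} [CommRing C] [Algebra A C] [Algebra R (C ⧸ Jm J C)] [IsScalarTower A R (C ⧸ Jm J C)]
  [Module.Flat R (C ⧸ Jm J C)]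
  (hJ : J * J = ⊥) {ι : Type} [Fintype ι] [DecidableEq ι] {a : ι → A} [hY : ∀ l, Module.Flat A (Yl C a l)]
  (D : ∀ i, LiftData J (fR R a i))
  (hsurj : ∀ c : C ⧸ Jm J C, ∃ b : R, c - algebraMap R _ b ∈
    (Ideal.span (Set.range (fR R a))).map (algebraMap R (C ⧸ Jm J C)))
  (hinj : ∀ b : R, algebraMap R (C ⧸ Jm J C) b ∈ (Ideal.span (Set.range (fR R a))).map (algebraMap R (C ⧸ Jm J C)) →
    b ∈ Ideal.span (Set.range (fR R a)))

include hsurj hinj in
theorem q_ext {r s : R} (h1 : algebraMap R (C ⧸ Jm J C) r = algebraMap R _ s)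
    (h2 : ∀ i, algebraMap R (Localization.Away (fR R a i)) r = algebraMap R _ s) : r = s :=
  sub_eq_zero.1 (q_unique hsurj hinj (r - s) (by rw [map_sub, h1, sub_self])
    fun i => by rw [map_sub, h2 i, sub_self])

/-- The projection to `R`. -/
noncomputable def qB : glue (C := C) hJ D →ₐ[A] R where
  toFun x := (exists_q hJ D hsurj hinj x).choose
  map_one' := by
    have h := (exists_q hJ D hsurj hinj 1).choose_spec
    exact q_ext hsurj hinj (by rw [h.1, map_one, map_one, map_one]) fun i => by rw [h.2, map_one, map_one, map_one]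
  map_mul' x y := by
    have h := (exists_q hJ D hsurj hinj (x * y)).choose_spec
    have hx := (exists_q hJ D hsurj hinj x).choose_spec
    have hy := (exists_q hJ D hsurj hinj y).choose_spec
    exact q_ext hsurj hinj (by rw [h.1, map_mul, map_mul, map_mul, hx.1, hy.1])
      fun i => by rw [h.2, map_mul, map_mul, map_mul, hx.2, hy.2]
  map_zero' := by
    have h := (exists_q hJ D hsurj hinj 0).choose_spec
    exact q_ext hsurj hinj (by rw [h.1, map_zero, map_zero, map_zero]) fun i => by rw [h.2, map_zero, map_zero, map_zero]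
  map_add' x y := by
    have h := (exists_q hJ D hsurj hinj (x + y)).choose_spec
    have hx := (exists_q hJ D hsurj hinj x).choose_spec
    have hy := (exists_q hJ D hsurj hinj y).choose_spec
    exact q_ext hsurj hinj (by rw [h.1, map_add, map_add, map_add, hx.1, hy.1])
      fun i => by rw [h.2, map_add, map_add, map_add, hx.2, hy.2]
  commutes' c := by
    have h := (exists_q hJ D hsurj hinj (algebraMap A _ c)).choose_spec
    exact q_ext hsurj hinj (by rw [h.1, AlgHom.commutes, ← IsScalarTower.algebraMap_apply]; rfl)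
      fun i => by rw [h.2, AlgHom.commutes, AlgHom.commutes, ← IsScalarTower.algebraMap_apply]

theorem qB_T (x : glue (C := C) hJ D) :
    algebraMap R (C ⧸ Jm J C) (qB hJ D hsurj hinj x) = Ideal.Quotient.mk (Jm J C) (glueFst hJ D x) :=
  (exists_q hJ D hsurj hinj x).choose_spec.1

theorem qB_L (x : glue (C := C) hJ D) (i : ι) :
    algebraMap R (Localization.Away (fR R a i)) (qB hJ D hsurj hinj x) = (D i).β (glueSnd hJ D i x) :=
  (exists_q hJ D hsurj hinj x).choose_spec.2 i

theorem mem_Jm_of_beta {i : ι} {x : (D i).X} (h : (D i).β x = 0) : x ∈ Jm J (D i).X :=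
  (D i).ker ▸ RingHom.mem_ker.2 h

theorem beta_mi (i : ι) (q : Localization.Away (fR R a i) ⊗[A] J) : (D i).β (mi hJ D i q) = 0 :=
  RingHom.mem_ker.1 ((D i).ker.symm ▸ mi_mem hJ D i q)

section Overlap

variable (C a) in
/-- Double localisation of `C`. -/
abbrev Y2 (i j : ι) : Type u := Localization.Away (algebraMap A (Yl C a i) (a j))

variable (J C a) in
/-- Its structure map. -/
noncomputable def rho2T (i j : ι) : (C ⧸ Jm J C) →ₐ[A] Y2 C a i j ⧸ Jm J (Y2 C a i j) :=
  rhoStep (Y2 C a i j) (rhoYT J C a i)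

theorem isLocAt_Y2 (i j : ι) :
    IsLocAt (rho2T J C a i j) (algebraMap R (C ⧸ Jm J C) (fR R a i * fR R a j)) := by
  have h := (isLocAt_Y (J := J) (R := R) (C := C) (a := a) i).step (X' := Y2 C a i j) (a j)
  rw [map_mul, ← IsScalarTower.algebraMap_apply A R (C ⧸ Jm J C) (a j)]
  exact h

theorem flat_Y2 (i j : ι) : Module.Flat A (Y2 C a i j) :=
  haveI : Module.Flat (Yl C a i) (Y2 C a i j) :=
    IsLocalization.flat _ (Submonoid.powers (algebraMap A (Yl C a i) (a j)))
  Module.Flat.trans A (Yl C a i) (Y2 C a i j)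

theorem isUnit_Y2_left (i j : ι) : IsUnit (algebraMap A (Y2 C a i j) (a i)) := by
  rw [IsScalarTower.algebraMap_apply A (Yl C a i) (Y2 C a i j)]; exact (isUnit_Y i).map _

theorem isUnit_Y2_right (i j : ι) : IsUnit (algebraMap A (Y2 C a i j) (a j)) := by
  rw [IsScalarTower.algebraMap_apply A (Yl C a i) (Y2 C a i j)]
  exact IsLocalization.Away.algebraMap_isUnit _

variable (C a) in
/-- The second restriction. -/
noncomputable def tauC (i j : ι) : Yl C a j →ₐ[A] Y2 C a i j :=
  IsLocalization.liftAlgHom (M := Submonoid.powers (algebraMap A C (a j)))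
    (f := (IsScalarTower.toAlgHom A (Yl C a i) (Y2 C a i j)).comp (IsScalarTower.toAlgHom A C (Yl C a i))) (by
    rintro ⟨_, k, rfl⟩
    rw [map_pow, AlgHom.commutes]
    exact (isUnit_Y2_right i j).pow k)

theorem tauC_alg (i j : ι) (c : C) :
    tauC C a i j (algebraMap C (Yl C a j) c) = algebraMap (Yl C a i) (Y2 C a i j) (algebraMap C (Yl C a i) c) :=
  IsLocalization.lift_eq _ c

theorem qmap_tauC (i j : ι) (t : C ⧸ Jm J C) : qmap (tauC C a i j) (rhoYT J C a j t) = rho2T J C a i j t := by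
  obtain ⟨c, rfl⟩ := Ideal.Quotient.mk_surjective t
  exact congrArg (Ideal.Quotient.mk _) (tauC_alg i j c)

include hY in
theorem lTensor_dMap_eq (z : (C ⧸ Jm J C) ⊗[R] (∀ i, Localization.Away (fR R a i) ⊗[A] J)) (y : ∀ i, (D i).X) (c : C)
    (hz : ∀ l, kapJ (rhoYT J C a l) hJ (isUnit_rhoY (R := R) l)
      (LinearMap.lTensor (C ⧸ Jm J C) (LinearMap.proj l) z) = phi hJ D l (y l) - algebraMap C (Yl C a l) c)
    (v : ∀ q : ι × ι, Localization.Away (fR R a q.1 * fR R a q.2) ⊗[A] J)
    (hv : ∀ i j, psiW hJ D i j (v (i, j)) = al D i j (y i) - be hJ D i j (y j)) :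
    LinearMap.lTensor (C ⧸ Jm J C) (dMap A J R a) z = 1 ⊗ₜ v := by
  rw [← sub_eq_zero]
  refine eq_zero_of_proj (fun q : ι × ι => Localization.Away (fR R a q.1 * fR R a q.2) ⊗[A] J) _ fun ⟨i, j⟩ => ?_
  haveI := flat_Y2 (C := C) (a := a) i j
  have hu : IsUnit (resT (R := R) (rho2T J C a i j) (fR R a i * fR R a j)) := (isLocAt_Y2 i j).isUnit
  apply kapJ_injective (rho2T J C a i j) hJ (isLocAt_Y2 i j) hu
  rw [map_sub, map_sub, map_zero, sub_eq_zero, ← LinearMap.lTensor_comp_apply,
    show LinearMap.proj (i, j) ∘ₗ dMap A J R a = dA i j ∘ₗ LinearMap.proj i - dB i j ∘ₗ LinearMap.proj j from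
      LinearMap.ext fun e => rfl,
    LinearMap.lTensor_sub, LinearMap.sub_apply, LinearMap.lTensor_comp_apply, LinearMap.lTensor_comp_apply, map_sub,
    LinearMap.lTensor_tmul, kapJ_tmul (rho2T J C a i j) hJ hu 1 _ 1 (by rw [map_one, map_one]), one_mul,
    LinearMap.proj_apply]
  set ρ₂ := resT (R := R) (rho2T J C a i j) with hρ₂
  have e1 : kapJ (rho2T J C a i j) hJ hu (LinearMap.lTensor _ (dA i j) (LinearMap.lTensor _ (LinearMap.proj i) z)) =
      ftA hJ D i ρ₂ (isUnit_Y2_left i j) (y i) - algebraMap (Yl C a i) (Y2 C a i j) (algebraMap C (Yl C a i) c) := by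
    rw [dA, ← kapJ_natural hJ (rhoYT J C a i) (rho2T J C a i j) (IsScalarTower.toAlgHom A (Yl C a i) (Y2 C a i j))
      (fun t => rfl) (isUnit_rhoY (R := R) i) hu, hz, map_sub, phi,
      comp_ftA hJ D i _ _ _ ρ₂ (isUnit_Y2_left i j) (fun r => rfl)]
    rfl
  have e2 : kapJ (rho2T J C a i j) hJ hu (LinearMap.lTensor _ (dB i j) (LinearMap.lTensor _ (LinearMap.proj j) z)) =
      ftA hJ D j ρ₂ (isUnit_Y2_right i j) (y j) - algebraMap (Yl C a i) (Y2 C a i j) (algebraMap C (Yl C a i) c) := by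
    rw [dB, ← kapJ_natural hJ (rhoYT J C a j) (rho2T J C a i j) (tauC C a i j)
      (qmap_tauC i j) (isUnit_rhoY (R := R) j) hu, hz, map_sub, tauC_alg, phi,
      comp_ftA hJ D j _ _ _ ρ₂ (isUnit_Y2_right i j) (fun r => qmap_tauC i j _)]
  rw [e1, e2, sub_sub_sub_cancel_right]
  have e3 := muL_natural hJ (tau hJ D ρ₂ i j (isUnit_Y2_left i j) (isUnit_Y2_right i j))
    (locHom (rhoW D i j) _ (isLocAt_W D i j).isUnit) (locHom ρ₂ _ hu) (AlgHom.id A _) (fun w =>
      AlgHom.congr_fun (locHom_ext ((qmap _).comp (locHom (rhoW D i j) _ (isLocAt_W D i j).isUnit)) (locHom ρ₂ _ hu)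
        fun r => by rw [AlgHom.comp_apply, locHom_alg, locHom_alg, qmap_tau]) w) (v (i, j))
  rw [show (AlgHom.id A (Localization.Away (fR R a i * fR R a j))).toLinearMap = LinearMap.id from rfl,
    LinearMap.rTensor_id, LinearMap.id_apply] at e3
  rw [← e3]
  change _ = tau hJ D ρ₂ i j _ _ (psiW hJ D i j (v (i, j)))
  rw [hv, map_sub, tau_al, tau_be]

end Overlap

include hsurj hinj hY in
theorem qB_surjective : Function.Surjective (qB hJ D hsurj hinj) := by
  intro r
  obtain ⟨c₀, hc₀⟩ := Ideal.Quotient.mk_surjective (algebraMap R (C ⧸ Jm J C) r)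
  choose y hy using fun i => (D i).exists_rep r
  have hδ : ∀ q : ι × ι, ∃ d, psiW hJ D q.1 q.2 d = al D q.1 q.2 (y q.1) - be hJ D q.1 q.2 (y q.2) := by
    intro q
    refine muL_surjective hJ _ (locHom_bijective (isLocAt_W D q.1 q.2)).2 ((Ideal.Quotient.eq).1 ?_)
    rw [← qmap_mk, (D q.1).mk_eq_ρ (hy q.1), be, ftA, (D q.2).ft_mk_alg hJ _ _ (hy q.2)]
    rfl
  choose v hv using hδ
  have hε : ∀ l, ∃ e, kapJ (rhoYT J C a l) hJ (isUnit_rhoY (R := R) l) e =
      phi hJ D l (y l) - algebraMap C (Yl C a l) c₀ := by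
    intro l
    refine kapJ_surjective (rhoYT J C a l) hJ (isLocAt_Y l) _ ((Ideal.Quotient.eq).1 ?_)
    rw [phi, ftA, (D l).ft_mk_alg hJ _ _ (hy l), ← rhoYT_mk, hc₀]
    rfl
  choose ε hε using hε
  set z : (C ⧸ Jm J C) ⊗[R] (∀ i, Localization.Away (fR R a i) ⊗[A] J) :=
    ∑ l, LinearMap.lTensor (C ⧸ Jm J C) (LinearMap.single R (fun i => Localization.Away (fR R a i) ⊗[A] J) l) (ε l)
  have hpz : ∀ l, LinearMap.lTensor (C ⧸ Jm J C) (LinearMap.proj l) z = ε l := by
    intro l
    rw [map_sum, Finset.sum_eq_single l]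
    · rw [← LinearMap.lTensor_comp_apply,
        show LinearMap.proj l ∘ₗ LinearMap.single R (fun i => Localization.Away (fR R a i) ⊗[A] J) l = LinearMap.id from
          LinearMap.ext fun x => by simp, LinearMap.lTensor_id]
      rfl
    · intro l' _ hl'
      rw [← LinearMap.lTensor_comp_apply,
        show LinearMap.proj l ∘ₗ LinearMap.single R (fun i => Localization.Away (fR R a i) ⊗[A] J) l' = 0 from
          LinearMap.ext fun x => by simp [Ne.symm hl'], LinearMap.lTensor_zero]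
      rfl
    · intro h; exact absurd (Finset.mem_univ l) h
  have hz : LinearMap.lTensor (C ⧸ Jm J C) (dMap A J R a) z = 1 ⊗ₜ v :=
    lTensor_dMap_eq hJ D z y c₀ (fun l => by rw [hpz, hε]) v fun i j => hv (i, j)
  have hvt : ∀ k, ∃ n : ℕ, fR R a k ^ n • v ∈ LinearMap.range (dMap A J R a) := by
    intro k
    obtain ⟨n, x, hx⟩ := glue_exists_ext (C := C) hJ D k (y k)
    have h1 : algebraMap R (Localization.Away (fR R a k)) (qB hJ D hsurj hinj x) =
        algebraMap R _ (fR R a k ^ n * r) := by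
      rw [qB_L, hx, map_mul, map_pow, AlgHom.commutes, hy, map_mul, map_pow, ← IsScalarTower.algebraMap_apply]
    obtain ⟨⟨_, m, rfl⟩, hm⟩ := (IsLocalization.eq_iff_exists (Submonoid.powers (fR R a k)) _).1 h1
    set b := algebraMap A _ (a k) ^ m * x with hb
    have hqb : qB hJ D hsurj hinj b = fR R a k ^ (m + n) * r := by
      rw [hb, map_mul, map_pow, AlgHom.commutes, pow_add, mul_assoc]
      exact hm
    have he : ∀ i, ∃ e, mi hJ D i e = glueSnd hJ D i b - algebraMap A _ (a k) ^ (m + n) * y i := by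
      intro i
      refine mi_surjective hJ D i (mem_Jm_of_beta D ?_)
      rw [map_sub, ← qB_L hJ D hsurj hinj, hqb, map_mul, map_mul, map_pow, map_pow, AlgHom.commutes, hy,
        ← IsScalarTower.algebraMap_apply, sub_self]
    choose e he using he
    refine ⟨m + n, -e, ?_⟩
    funext ⟨i, j⟩
    apply psiW_injective hJ D i j
    rw [map_neg, Pi.neg_apply, map_neg, psiW_dMap, he, he, Pi.smul_apply,
      show fR R a k ^ (m + n) • v (i, j) = (a k ^ (m + n)) • v (i, j) from by
        change algebraMap A R (a k) ^ (m + n) • v (i, j) = _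
        rw [← map_pow (algebraMap A R)]; exact algebraMap_smul R (a k ^ (m + n)) (v (i, j)),
      map_smul, hv (i, j),
      Algebra.smul_def, map_sub (al D i j), map_sub (be hJ D i j), map_mul (al D i j), map_mul (be hJ D i j),
      map_pow (al D i j), map_pow (be hJ D i j), AlgHom.commutes, AlgHom.commutes, glue_al hJ D b, map_pow]
    ring
  obtain ⟨e, he⟩ := mem_range_of_tmul (fR R a) hsurj hinj _ v z hz hvt
  obtain ⟨m, p, hm0, hzm⟩ := exists_decomp (fR R a) hsurj (Phi A J R a) (dMap A J R a) dMap_Phi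
    (exists_pow_smul_mem_range hJ D) (z - 1 ⊗ₜ e) (by rw [map_sub, hz, LinearMap.lTensor_tmul, he, sub_self])
  have hzp : z = 1 ⊗ₜ (e + m) + LinearMap.lTensor (C ⧸ Jm J C) (Phi A J R a) p := by
    rw [TensorProduct.tmul_add, add_assoc, ← hzm, add_sub_cancel]
  set e' := e + m with he'
  have hde : dMap A J R a e' = v := by
    rw [he', map_add, he, hm0, add_zero]
  let y' : ∀ i, (D i).X := fun i => y i - mi hJ D i (e' i)
  let c : C := c₀ + psi0 hJ p
  have hmem : (c, y') ∈ glue (C := C) hJ D := by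
    refine ⟨fun i j => ?_, fun l => ?_⟩
    · change al D i j (y i - _) = be hJ D i j (y j - _)
      rw [map_sub, map_sub, sub_eq_sub_iff_sub_eq_sub, ← psiW_dMap, hde, hv (i, j)]
    · change algebraMap C (Yl C a l) (c₀ + _) = phi hJ D l (y l - _)
      have h1 := congrArg (fun w => kapJ (rhoYT J C a l) hJ (isUnit_rhoY (R := R) l)
        (LinearMap.lTensor (C ⧸ Jm J C) (LinearMap.proj l) w)) hzp
      simp only [hpz, hε, map_add, LinearMap.lTensor_tmul, ← LinearMap.lTensor_comp_apply] at h1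
      rw [map_add, algebraMap_psi0, map_sub, phi_mi]
      rw [show LinearMap.proj l ∘ₗ Phi A J R a = locJ (fR R a l) from LinearMap.ext fun _ => rfl,
        LinearMap.proj_apply] at h1
      linear_combination -h1
  refine ⟨⟨(c, y'), hmem⟩, q_ext hsurj hinj ?_ fun i => ?_⟩
  · rw [qB_T, ← hc₀]
    change Ideal.Quotient.mk (Jm J C) (c₀ + _) = _
    rw [map_add, Ideal.Quotient.eq_zero_iff_mem.2 (psi0_mem hJ p), add_zero]
  · rw [qB_L]
    change (D i).β (y i - _) = _
    rw [map_sub, hy, beta_mi, sub_zero]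

include hsurj hinj hY in
theorem exists_glue_of_tensor (p : R ⊗[A] J) :
    ∃ b ∈ Jm J (glue (C := C) hJ D), glueFst hJ D b = psi0 hJ (C := C) ((1 : C ⧸ Jm J C) ⊗ₜ[R] p) ∧
      ∀ i, glueSnd hJ D i b = mi hJ D i (locJ (fR R a i) p) := by
  induction p with
  | zero => exact ⟨0, zero_mem _, by simp, fun i => by simp⟩
  | add p q hp hq =>
    obtain ⟨b, hb, hb1, hb2⟩ := hp
    obtain ⟨c, hc, hc1, hc2⟩ := hq
    exact ⟨b + c, add_mem hb hc, by rw [TensorProduct.tmul_add, map_add, map_add, hb1, hc1],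
      fun i => by rw [map_add, map_add, map_add, hb2, hc2]⟩
  | tmul r j =>
    obtain ⟨x, rfl⟩ := qB_surjective hJ D hsurj hinj r
    refine ⟨(j : A) • x, ?_, ?_, fun i => ?_⟩
    · rw [Algebra.smul_def]
      exact Ideal.mul_mem_right _ _ (Ideal.mem_map_of_mem _ j.2)
    · rw [map_smul, ← map_one (Ideal.Quotient.mk (Jm J C)),
        psi0_tmul hJ 1 _ j (glueFst hJ D x) (qB_T hJ D hsurj hinj x).symm, one_mul]
    · rw [map_smul, locJ_tmul, mi, muL_tmul hJ _ _ j (glueSnd hJ D i x)]
      refine (D i).equiv.injective ?_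
      erw [LiftData.equiv_mk, AlgEquiv.apply_symm_apply]
      exact (qB_L hJ D hsurj hinj x i).symm

include hsurj hinj hY in
theorem ker_qB (hR : ∀ j ∈ J, algebraMap A R j = 0) :
    RingHom.ker (qB hJ D hsurj hinj) = Jm J (glue (C := C) hJ D) := by
  refine le_antisymm (fun x hx => ?_) ?_
  · have hx' : qB hJ D hsurj hinj x = 0 := hx
    have h1 : glueFst hJ D x ∈ Jm J C := by
      rw [← Ideal.Quotient.eq_zero_iff_mem, ← qB_T hJ D hsurj hinj, hx', map_zero]
    obtain ⟨z, hz⟩ := psi0_surjective hJ (R := R) h1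
    choose e he using fun i => mi_surjective hJ D i (x := glueSnd hJ D i x)
      (mem_Jm_of_beta D (by rw [← qB_L hJ D hsurj hinj, hx', map_zero]))
    have hde : dMap A J R a e = 0 := by
      rw [dMap_eq_zero_iff hJ D]
      intro i j
      simp only [he]
      exact glue_al hJ D x i j
    have hw := lTensor_Phi_eq hJ z ((1 : C ⧸ Jm J C) ⊗ₜ[R] e) fun l => by
      rw [hz, glue_phi, ← he l, phi_mi, LinearMap.lTensor_tmul, LinearMap.proj_apply]
    obtain ⟨p, hp, hzp⟩ := descend (fR R a) hsurj hinj _ e z hw (fun k => exists_pow_smul_mem_range hJ D e hde k)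
      (fun p hp k => ker_Phi_torsion p hp k)
    obtain ⟨b, hb, hb1, hb2⟩ := exists_glue_of_tensor hJ D hsurj hinj p
    rwa [show x = b from glue_ext hJ D (by rw [hb1, ← hzp, hz]) fun i => by rw [hb2, ← he i, ← hp]; rfl]
  · rw [Jm, Ideal.map_le_iff_le_comap]
    intro j hj
    rw [Ideal.mem_comap, RingHom.mem_ker, AlgHom.commutes, hR j hj]

end Groth.Agent.EtaleGlueLib
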