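import Groth.Agent.EtaleGlueLib.Desc

/-! Overlaps of the local lifts. -/

set_option autoImplicit false
set_option linter.style.haveILetI false
set_option linter.unusedSectionVars false
open scoped TensorProduct

universe u

namespace Groth.Agent.EtaleGlueLib

variable {A : Type u} [CommRing A] {J : Ideal A} {R : Type u} [CommRing R] [Algebra A R]

/-- The image of `a i` in `R`. -/
abbrev fR (R : Type u) [CommRing R] [Algebra A R] {ι : Type*} (a : ι → A) (i : ι) : R := algebraMap A R (a i)

theorem unit_of_alg {X : Type u} [CommRing X] [Algebra A X] (ρ' : R →ₐ[A] X ⧸ Jm J X) {c : A}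
    (h : IsUnit (algebraMap A X c)) : IsUnit (ρ' (algebraMap A R c)) := by
  rw [AlgHom.commutes]
  exact h.map (Ideal.Quotient.mk (Jm J X))

theorem alg_of_unit (hJ : J * J = ⊥) {X : Type u} [CommRing X] [Algebra A X] (ρ' : R →ₐ[A] X ⧸ Jm J X) {c : A}
    (h : IsUnit (ρ' (algebraMap A R c))) : IsUnit (algebraMap A X c) := by
  rw [AlgHom.commutes] at h
  exact isUnit_of_mk hJ h

theorem isUnit_away_mul_left (f f' : R) : IsUnit (algebraMap R (Localization.Away (f * f')) f) := by
  have h := IsLocalization.Away.algebraMap_isUnit (S := Localization.Away (f * f')) (f * f')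
  rw [map_mul] at h
  exact isUnit_of_mul_isUnit_left h

theorem isUnit_away_mul_right (f f' : R) : IsUnit (algebraMap R (Localization.Away (f * f')) f') := by
  have h := IsLocalization.Away.algebraMap_isUnit (S := Localization.Away (f * f')) (f * f')
  rw [map_mul] at h
  exact isUnit_of_mul_isUnit_right h

theorem etale_away (X : Type u) [CommRing X] [Algebra A X] [Algebra.Etale A X] (x : X) :
    Algebra.Etale A (Localization.Away x) := by
  haveI : Algebra.Etale X (Localization.Away x) := Algebra.Etale.of_isLocalizationAway x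
  exact Algebra.Etale.comp A X (Localization.Away x)

theorem exists_pow_smul_of_away_eq_zero {X : Type u} [CommRing X] [Algebra A X] (c : A) {x : X}
    (h : algebraMap X (Localization.Away (algebraMap A X c)) x = 0) : ∃ n : ℕ, algebraMap A X c ^ n * x = 0 := by
  rw [← map_zero (algebraMap X (Localization.Away (algebraMap A X c)))] at h
  obtain ⟨⟨_, n, rfl⟩, hn⟩ := (IsLocalization.eq_iff_exists (Submonoid.powers (algebraMap A X c)) _).1 h
  exact ⟨n, by simpa using hn⟩

variable (hJ : J * J = ⊥) {ι : Type*} {a : ι → A} (D : ∀ i, LiftData J (fR R a i))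

include hJ in
theorem isUnit_X (i : ι) : IsUnit (algebraMap A (D i).X (a i)) := alg_of_unit hJ _ (D i).isLocAt.isUnit

/-- The lift to a thickening in which `a i` is a unit. -/
noncomputable def ftA (i : ι) {X : Type u} [CommRing X] [Algebra A X] (ρ' : R →ₐ[A] X ⧸ Jm J X)
    (h : IsUnit (algebraMap A X (a i))) : (D i).X →ₐ[A] X :=
  (D i).ft hJ ρ' (unit_of_alg ρ' h)

/-- The overlap. -/
abbrev W (i j : ι) : Type u := Localization.Away (algebraMap A (D i).X (a j))

instance (i j : ι) : Algebra.Etale A (W D i j) := etale_away _ _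

/-- The structure map of the overlap. -/
noncomputable def rhoW (i j : ι) : R →ₐ[A] W D i j ⧸ Jm J (W D i j) := rhoStep (W D i j) (D i).ρ

theorem isLocAt_W (i j : ι) : IsLocAt (rhoW D i j) (fR R a i * fR R a j) := (D i).isLocAt.step (a j)

theorem isUnit_W_right (i j : ι) : IsUnit (algebraMap A (W D i j) (a j)) := by
  rw [IsScalarTower.algebraMap_apply A (D i).X (W D i j)]
  exact IsLocalization.Away.algebraMap_isUnit _

include hJ in
theorem isUnit_W_left (i j : ι) : IsUnit (algebraMap A (W D i j) (a i)) := by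
  rw [IsScalarTower.algebraMap_apply A (D i).X (W D i j)]
  exact (isUnit_X hJ D i).map _

/-- First restriction to the overlap. -/
noncomputable abbrev al (i j : ι) : (D i).X →ₐ[A] W D i j := IsScalarTower.toAlgHom A (D i).X (W D i j)

/-- Second restriction to the overlap. -/
noncomputable def be (i j : ι) : (D j).X →ₐ[A] W D i j := ftA hJ D j (rhoW D i j) (isUnit_W_right D i j)

theorem al_eq (i j : ι) : al D i j = ftA hJ D i (rhoW D i j) (isUnit_W_left hJ D i j) :=
  (D i).ft_unique hJ _ _ _ fun y r hy => by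
    rw [← qmap_mk, (D i).mk_eq_ρ hy]
    rfl

theorem comp_ftA (i : ι) {X X' : Type u} [CommRing X] [Algebra A X] [CommRing X'] [Algebra A X']
    (ρ' : R →ₐ[A] X ⧸ Jm J X) (h : IsUnit (algebraMap A X (a i))) (F : X →ₐ[A] X') (ρ'' : R →ₐ[A] X' ⧸ Jm J X')
    (h' : IsUnit (algebraMap A X' (a i))) (hF : ∀ r, qmap F (ρ' r) = ρ'' r) (x : (D i).X) :
    F (ftA hJ D i ρ' h x) = ftA hJ D i ρ'' h' x :=
  AlgHom.congr_fun ((D i).comp_ft hJ ρ' (unit_of_alg ρ' h) F ρ'' (unit_of_alg ρ'' h') hF) x

section Tau

variable {X : Type u} [CommRing X] [Algebra A X] (ρ' : R →ₐ[A] X ⧸ Jm J X) (i j : ι)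
  (hi : IsUnit (algebraMap A X (a i))) (hj : IsUnit (algebraMap A X (a j)))

/-- The map from the overlap to a thickening. -/
noncomputable def tau : W D i j →ₐ[A] X :=
  IsLocalization.liftAlgHom (M := Submonoid.powers (algebraMap A (D i).X (a j))) (f := ftA hJ D i ρ' hi) (by
    rintro ⟨_, n, rfl⟩
    rw [map_pow, AlgHom.commutes]
    exact hj.pow n)

theorem tau_al (x : (D i).X) : tau hJ D ρ' i j hi hj (al D i j x) = ftA hJ D i ρ' hi x := IsLocalization.lift_eq _ x

theorem qmap_tau (r : R) : qmap (tau hJ D ρ' i j hi hj) (rhoW D i j r) = ρ' r := by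
  obtain ⟨y, hy⟩ := (D i).exists_rep r
  rw [rhoW, rhoStep, AlgHom.comp_apply, ← (D i).mk_eq_ρ hy, qmap_mk, qmap_mk, tau_al]
  exact (D i).ft_mk_alg hJ ρ' _ hy

theorem tau_be (y : (D j).X) : tau hJ D ρ' i j hi hj (be hJ D i j y) = ftA hJ D j ρ' hj y :=
  comp_ftA hJ D j _ _ _ ρ' hj (qmap_tau hJ D ρ' i j hi hj) y

include hJ in
theorem ft_compat {x : (D i).X} {y : (D j).X} (h : al D i j x = be hJ D i j y) :
    ftA hJ D i ρ' hi x = ftA hJ D j ρ' hj y := by
  rw [← tau_al hJ D ρ' i j hi hj x, h, tau_be]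

end Tau

/-- The symmetry of the overlap. -/
noncomputable def sig (i j : ι) : W D i j →ₐ[A] W D j i :=
  tau hJ D (rhoW D j i) i j (isUnit_W_right D j i) (isUnit_W_left hJ D j i)

theorem sig_al (i j : ι) (x : (D i).X) : sig hJ D i j (al D i j x) = be hJ D j i x := tau_al hJ D _ _ _ _ _ x

theorem sig_be (i j : ι) (y : (D j).X) : sig hJ D i j (be hJ D i j y) = al D j i y := by
  rw [sig, tau_be, al_eq hJ D j i]

theorem sig_sig (i j : ι) (w : W D i j) : sig hJ D j i (sig hJ D i j w) = w := by
  have h : ((sig hJ D j i).comp (sig hJ D i j)).toRingHom = (AlgHom.id A (W D i j)).toRingHom := by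
    refine IsLocalization.ringHom_ext (Submonoid.powers (algebraMap A (D i).X (a j))) (RingHom.ext fun x => ?_)
    change sig hJ D j i (sig hJ D i j (al D i j x)) = al D i j x
    rw [sig_al, sig_be]
  exact RingHom.congr_fun h w

theorem be_eq_zero (i j : ι) {x : (D j).X} (h : be hJ D i j x = 0) : ∃ n : ℕ, algebraMap A _ (a i) ^ n * x = 0 := by
  refine exists_pow_smul_of_away_eq_zero (a i) ?_
  change al D j i x = 0
  rw [← sig_be hJ D i j x, h, map_zero]

theorem exists_be (i j : ι) (w : W D i j) :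
    ∃ (x : (D j).X) (n : ℕ), w * algebraMap A _ (a i) ^ n = be hJ D i j x := by
  obtain ⟨n, x, hx⟩ := IsLocalization.Away.surj (algebraMap A (D j).X (a i)) (sig hJ D i j w)
  refine ⟨x, n, ?_⟩
  have h := congrArg (sig hJ D j i) hx
  rw [map_mul, map_pow, sig_sig, ← IsScalarTower.algebraMap_apply, AlgHom.commutes] at h
  rw [h]
  exact sig_al hJ D j i x

include hJ in
theorem al_self_injective (i : ι) : Function.Injective (al D i i) := by
  intro x y h
  rw [← sub_eq_zero]
  obtain ⟨n, hn⟩ := exists_pow_smul_of_away_eq_zero (a i) (x := x - y)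
    (by rw [map_sub]; exact sub_eq_zero.2 h)
  exact ((isUnit_X hJ D i).pow n).mul_right_eq_zero.1 hn

theorem be_self (i : ι) : be hJ D i i = al D i i := (al_eq hJ D i i).symm

/-- Compatible families. -/
def Compat (x : ∀ i, (D i).X) : Prop := ∀ i j, al D i j (x i) = be hJ D i j (x j)

end Groth.Agent.EtaleGlueLib
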