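import Groth.Agent.EtaleGlueLib.Glue

/-! The projection from the glued algebra. -/

set_option autoImplicit false
set_option linter.style.haveILetI false
set_option linter.unusedSectionVars false
open scoped TensorProduct

universe u

namespace Groth.Agent.EtaleGlueLib

variable {A : Type u} [CommRing A] {J : Ideal A} {R : Type u} [CommRing R] [Algebra A R]
  {C : Type u} [CommRing C] [Algebra A C] [Algebra R (C ⧸ Jm J C)] [IsScalarTower A R (C ⧸ Jm J C)]
  (hJ : J * J = ⊥) {ι : Type} [Fintype ι] [DecidableEq ι] {a : ι → A} (D : ∀ i, LiftData J (fR R a i))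

theorem algebraMap_pow_smul {M : Type u} [AddCommGroup M] [Module A M] [Module R M] [IsScalarTower A R M]
    (k : ι) (n : ℕ) (x : M) : fR R a k ^ n • x = a k ^ n • x := by
  rw [← map_pow, algebraMap_smul]

theorem mem_Jm_of_away {X : Type u} [CommRing X] [Algebra A X] (c : A) {z : X}
    (h : algebraMap X (Localization.Away (algebraMap A X c)) z ∈ Jm J (Localization.Away (algebraMap A X c))) :
    ∃ n : ℕ, algebraMap A X c ^ n * z ∈ Jm J X := by
  have e : Jm J (Localization.Away (algebraMap A X c)) =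
      (Jm J X).map (algebraMap X (Localization.Away (algebraMap A X c))) := by
    rw [Jm, Jm, Ideal.map_map, ← IsScalarTower.algebraMap_eq]
  rw [e, IsLocalization.algebraMap_mem_map_algebraMap_iff (Submonoid.powers (algebraMap A X c))] at h
  obtain ⟨_, ⟨n, rfl⟩, hn⟩ := h
  exact ⟨n, hn⟩

/-- `R_{f_i} ⊗ J → X_i`. -/
noncomputable def mi (i : ι) : Localization.Away (fR R a i) ⊗[A] J →ₗ[A] (D i).X :=
  muL hJ (D i).equiv.symm.toAlgHom

theorem mi_injective (i : ι) : Function.Injective (mi hJ D i) := muL_injective hJ _ (D i).equiv.symm.bijective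

theorem mi_surjective (i : ι) {x : (D i).X} (hx : x ∈ Jm J (D i).X) : ∃ q, mi hJ D i q = x :=
  muL_surjective hJ _ (D i).equiv.symm.surjective hx

theorem mi_mem (i : ι) (q : Localization.Away (fR R a i) ⊗[A] J) : mi hJ D i q ∈ Jm J (D i).X := mu_mem hJ _

/-- `R_{f_i f_j} ⊗ J → W`. -/
noncomputable def psiW (i j : ι) : Localization.Away (fR R a i * fR R a j) ⊗[A] J →ₗ[A] W D i j :=
  muL hJ (locHom (rhoW D i j) _ (isLocAt_W D i j).isUnit)

theorem psiW_injective (i j : ι) : Function.Injective (psiW hJ D i j) :=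
  muL_injective hJ _ (locHom_bijective (isLocAt_W D i j))

/-- First restriction on tensors. -/
noncomputable def dA (i j : ι) :
    Localization.Away (fR R a i) ⊗[A] J →ₗ[R] Localization.Away (fR R a i * fR R a j) ⊗[A] J :=
  awayJ _ _ (isUnit_away_mul_left _ _)

/-- Second restriction on tensors. -/
noncomputable def dB (i j : ι) :
    Localization.Away (fR R a j) ⊗[A] J →ₗ[R] Localization.Away (fR R a i * fR R a j) ⊗[A] J :=
  awayJ _ _ (isUnit_away_mul_right _ _)

theorem al_mi (i j : ι) (q : Localization.Away (fR R a i) ⊗[A] J) :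
    al D i j (mi hJ D i q) = psiW hJ D i j (dA i j q) :=
  muL_awayJ hJ (al D i j) _ _ _ (fun r => by rw [locHom_alg]; rfl) q

theorem be_mi (i j : ι) (q : Localization.Away (fR R a j) ⊗[A] J) :
    be hJ D i j (mi hJ D j q) = psiW hJ D i j (dB i j q) :=
  muL_awayJ hJ (be hJ D i j) _ _ _ (fun r => by
    rw [locHom_alg]; exact (D j).qmap_ft hJ (rhoW D i j) _ r) q

variable (A J R a) in
/-- The difference map. -/
noncomputable def dMap : (∀ i, Localization.Away (fR R a i) ⊗[A] J) →ₗ[R]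
    (∀ q : ι × ι, Localization.Away (fR R a q.1 * fR R a q.2) ⊗[A] J) :=
  LinearMap.pi fun q => dA q.1 q.2 ∘ₗ LinearMap.proj q.1 - dB q.1 q.2 ∘ₗ LinearMap.proj q.2

variable (A J R a) in
/-- The localisation map. -/
noncomputable def Phi : R ⊗[A] J →ₗ[R] ∀ i, Localization.Away (fR R a i) ⊗[A] J :=
  LinearMap.pi fun i => locJ (fR R a i)

theorem dMap_Phi (p : R ⊗[A] J) : dMap A J R a (Phi A J R a p) = 0 := by
  funext q
  change dA q.1 q.2 (locJ _ p) - dB q.1 q.2 (locJ _ p) = 0
  rw [dA, dB, awayJ_locJ, awayJ_locJ, sub_self]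

theorem psiW_dMap (e : ∀ i, Localization.Away (fR R a i) ⊗[A] J) (i j : ι) :
    psiW hJ D i j (dMap A J R a e (i, j)) = al D i j (mi hJ D i (e i)) - be hJ D i j (mi hJ D j (e j)) := by
  change psiW hJ D i j (dA i j (e i) - dB i j (e j)) = _
  rw [map_sub, al_mi, be_mi]

theorem dMap_eq_zero_iff (e : ∀ i, Localization.Away (fR R a i) ⊗[A] J) :
    dMap A J R a e = 0 ↔ Compat hJ D fun i => mi hJ D i (e i) := by
  constructor
  · intro h i j
    rw [← sub_eq_zero, ← psiW_dMap, h, Pi.zero_apply, map_zero]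
  · intro h
    funext ⟨i, j⟩
    apply psiW_injective hJ D i j
    rw [psiW_dMap, sub_eq_zero.2 (h i j), Pi.zero_apply, map_zero]

include D hJ in
theorem exists_pow_smul_mem_range (e : ∀ i, Localization.Away (fR R a i) ⊗[A] J) (he : dMap A J R a e = 0)
    (k : ι) : ∃ n : ℕ, fR R a k ^ n • e ∈ LinearMap.range (Phi A J R a) := by
  obtain ⟨⟨p, ⟨_, n, rfl⟩⟩, hp⟩ := IsLocalizedModule.surj (Submonoid.powers (fR R a k)) (locJ (fR R a k)) (e k)
  have hd : dMap A J R a (fR R a k ^ n • e - Phi A J R a p) = 0 := by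
    rw [map_sub, map_smul, he, smul_zero, dMap_Phi, sub_zero]
  rw [dMap_eq_zero_iff hJ D] at hd
  have hk : (fR R a k ^ n • e - Phi A J R a p) k = 0 := sub_eq_zero.2 hp
  have hl : ∀ l, ∃ m : ℕ, fR R a k ^ m • (fR R a k ^ n • e - Phi A J R a p) l = 0 := by
    intro l
    obtain ⟨m, hm⟩ := exists_pow_smul_of_away_eq_zero (a k) (x := mi hJ D l ((fR R a k ^ n • e - Phi A J R a p) l))
      ((hd l k).trans (by change be hJ D l k (mi hJ D k _) = 0; rw [hk, map_zero, map_zero]))
    refine ⟨m, mi_injective hJ D l ?_⟩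
    rw [← map_pow, algebraMap_smul, map_smul, map_zero, Algebra.smul_def, map_pow, hm]
  choose m hm using hl
  refine ⟨Finset.univ.sup m + n, fR R a k ^ Finset.univ.sup m • p, ?_⟩
  funext l
  rw [map_smul, Pi.smul_apply, Pi.smul_apply, pow_add, mul_smul, eq_comm, ← sub_eq_zero]
  refine (smul_sub _ _ _).symm.trans ?_
  rw [← Nat.sub_add_cancel (Finset.le_sup (f := m) (Finset.mem_univ l)), pow_add, mul_smul]
  exact (congrArg _ (hm l)).trans (smul_zero _)

theorem ker_Phi_torsion (p : R ⊗[A] J) (hp : Phi A J R a p = 0) (k : ι) : ∃ n : ℕ, fR R a k ^ n • p = 0 := by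
  have h : locJ (fR R a k) p = locJ (fR R a k) 0 := by rw [map_zero]; exact congrFun hp k
  obtain ⟨⟨_, n, rfl⟩, hn⟩ := (IsLocalizedModule.eq_iff_exists (Submonoid.powers (fR R a k)) (locJ (fR R a k))).1 h
  exact ⟨n, by simpa [Submonoid.smul_def, smul_zero] using hn⟩

theorem phi_mi (l : ι) (q : Localization.Away (fR R a l) ⊗[A] J) :
    phi hJ D l (mi hJ D l q) = kapJ (rhoYT J C a l) hJ (isUnit_rhoY (R := R) l) ((1 : C ⧸ Jm J C) ⊗ₜ[R] q) := by
  rw [kapJ_tmul (rhoYT J C a l) hJ _ 1 q 1 (by rw [map_one, map_one]), one_mul, mi,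
    muL_natural hJ (phi hJ D l) _ (locHom (rhoY J C a l) _ (isUnit_rhoY l)) (AlgHom.id A _) ?_ q]
  · rw [show (AlgHom.id A (Localization.Away (fR R a l))).toLinearMap = LinearMap.id from rfl, LinearMap.rTensor_id]
    rfl
  · intro z
    refine AlgHom.congr_fun (locHom_ext ((qmap (phi hJ D l)).comp (D l).equiv.symm.toAlgHom)
      (locHom (rhoY J C a l) _ (isUnit_rhoY l)) fun r => ?_) z
    rw [AlgHom.comp_apply, locHom_alg]
    exact (D l).qmap_ft hJ (rhoY J C a l) _ r

theorem rhoYT_mk (l : ι) (c : C) :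
    rhoYT J C a l (Ideal.Quotient.mk (Jm J C) c) = Ideal.Quotient.mk (Jm J (Yl C a l)) (algebraMap C (Yl C a l) c) := rfl

theorem algebraMap_psi0 (l : ι) (z : (C ⧸ Jm J C) ⊗[R] (R ⊗[A] J)) :
    algebraMap C (Yl C a l) (psi0 hJ z) = kapJ (rhoYT J C a l) hJ (isUnit_rhoY (R := R) l)
      (LinearMap.lTensor (C ⧸ Jm J C) (locJ (fR R a l)) z) :=
  psi0_natural hJ (rhoYT J C a l) (IsScalarTower.toAlgHom A C (Yl C a l)) (fun _ => rfl) _ z

variable [Module.Flat R (C ⧸ Jm J C)] [hY : ∀ l, Module.Flat A (Yl C a l)]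
  (hsurj : ∀ c : C ⧸ Jm J C, ∃ b : R, c - algebraMap R _ b ∈
    (Ideal.span (Set.range (fR R a))).map (algebraMap R (C ⧸ Jm J C)))
  (hinj : ∀ b : R, algebraMap R (C ⧸ Jm J C) b ∈ (Ideal.span (Set.range (fR R a))).map (algebraMap R (C ⧸ Jm J C)) →
    b ∈ Ideal.span (Set.range (fR R a)))

include hY in
theorem lTensor_Phi_eq (z : (C ⧸ Jm J C) ⊗[R] (R ⊗[A] J)) (w : (C ⧸ Jm J C) ⊗[R] (∀ i, Localization.Away (fR R a i) ⊗[A] J))
    (h : ∀ l, algebraMap C (Yl C a l) (psi0 hJ z) = kapJ (rhoYT J C a l) hJ (isUnit_rhoY (R := R) l)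
      (LinearMap.lTensor (C ⧸ Jm J C) (LinearMap.proj l) w)) :
    LinearMap.lTensor (C ⧸ Jm J C) (Phi A J R a) z = w := by
  rw [← sub_eq_zero]
  refine eq_zero_of_proj (fun i => Localization.Away (fR R a i) ⊗[A] J) _ fun l => ?_
  apply kapJ_injective (rhoYT J C a l) hJ (isLocAt_Y l) (isUnit_rhoY (R := R) l)
  rw [map_sub, map_sub, ← h l, algebraMap_psi0, ← LinearMap.lTensor_comp_apply, map_zero, sub_eq_zero]
  rfl

include hsurj hY in
theorem exists_tensor_ker (z : (C ⧸ Jm J C) ⊗[R] (R ⊗[A] J))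
    (hz : ∀ l, algebraMap C (Yl C a l) (psi0 hJ z) = 0) :
    ∃ p, Phi A J R a p = 0 ∧ z = 1 ⊗ₜ p :=
  eq_one_tmul_of_ker (fR R a) hsurj _ (fun p hp k => ker_Phi_torsion p hp k) z
    (lTensor_Phi_eq hJ z 0 fun l => by rw [hz l, map_zero, map_zero])

include hsurj hinj hY in
theorem exists_q (x : glue (C := C) hJ D) :
    ∃ r : R, algebraMap R (C ⧸ Jm J C) r = Ideal.Quotient.mk (Jm J C) (glueFst hJ D x) ∧
      ∀ i, algebraMap R (Localization.Away (fR R a i)) r = (D i).β (glueSnd hJ D i x) := by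
  set Φ₀ : R →ₗ[R] ∀ i, Localization.Away (fR R a i) :=
    LinearMap.pi fun i => Algebra.linearMap R (Localization.Away (fR R a i))
  set v : ∀ i, Localization.Away (fR R a i) := fun i => (D i).β (glueSnd hJ D i x)
  set c : C ⧸ Jm J C := Ideal.Quotient.mk (Jm J C) (glueFst hJ D x)
  have hz : LinearMap.lTensor (C ⧸ Jm J C) Φ₀ (c ⊗ₜ 1) = 1 ⊗ₜ v := by
    rw [← sub_eq_zero]
    refine eq_zero_of_proj (fun i => Localization.Away (fR R a i)) _ fun l => ?_
    apply (kap_bijective (rhoYT J C a l) (isLocAt_Y l) (isUnit_rhoY (R := R) l)).1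
    rw [map_sub, map_sub, map_zero, LinearMap.lTensor_tmul, LinearMap.lTensor_tmul, LinearMap.lTensor_tmul,
      kap_tmul, kap_tmul]
    change rhoYT J C a l c * locHom _ _ _ (algebraMap R (Localization.Away (fR R a l)) 1) -
      rhoYT J C a l 1 * locHom _ _ _ (v l) = 0
    rw [map_one, map_one, map_one, mul_one, one_mul, sub_eq_zero, rhoYT_mk, glue_phi]
    exact (D l).ft_mk hJ (rhoY J C a l) _ _
  have hv : ∀ k, ∃ n : ℕ, fR R a k ^ n • v ∈ LinearMap.range Φ₀ := by
    intro k
    obtain ⟨n, r, hr⟩ := IsLocalization.Away.surj (fR R a k) (v k)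
    have hl : ∀ l, ∃ m : ℕ, fR R a k ^ m • (fR R a k ^ n • v - Φ₀ r) l = 0 := by
      intro l
      set d := (fR R a k ^ n • v - Φ₀ r) l with hd
      obtain ⟨z, hz⟩ := (D l).surj d
      have h0 : Ideal.Quotient.mk (Jm J (W D l k)) (al D l k z) = 0 := by
        have e1 : Ideal.Quotient.mk (Jm J (D l).X) z =
            Ideal.Quotient.mk _ (algebraMap A _ (a k) ^ n * glueSnd hJ D l x) - (D l).ρ r := by
          apply (D l).equiv.injective
          rw [map_sub, (D l).equiv_mk, (D l).equiv_mk, hz, hd, Pi.sub_apply, Pi.smul_apply, LiftData.ρ_apply,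
            AlgEquiv.apply_symm_apply, map_mul, map_pow, AlgHom.commutes]
          simp [v, Φ₀, Algebra.smul_def, fR, map_pow, ← IsScalarTower.algebraMap_apply]
        have e2 : Ideal.Quotient.mk (Jm J (D k).X) (algebraMap A _ (a k) ^ n * glueSnd hJ D k x) - (D k).ρ r = 0 := by
          apply (D k).equiv.injective
          rw [map_sub, (D k).equiv_mk, LiftData.ρ_apply, AlgEquiv.apply_symm_apply, map_mul, map_pow,
            AlgHom.commutes, map_zero, sub_eq_zero, ← hr, mul_comm, ← IsScalarTower.algebraMap_apply]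
        rw [← qmap_mk, e1, map_sub, qmap_mk, map_mul (al D l k), map_pow (al D l k), AlgHom.commutes, glue_al]
        have e3 := congrArg (qmap (be hJ D l k)) e2
        rw [map_sub, qmap_mk, map_mul (be hJ D l k), map_pow (be hJ D l k), AlgHom.commutes, map_zero] at e3
        rw [show qmap (al D l k) ((D l).ρ r) = qmap (be hJ D l k) ((D k).ρ r) from
          ((D k).qmap_ft hJ (rhoW D l k) _ r).symm]
        exact e3
      obtain ⟨m, hm⟩ := mem_Jm_of_away (a k) ((Ideal.Quotient.eq_zero_iff_mem).1 h0)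
      refine ⟨m, ?_⟩
      have h2 : (D l).β (algebraMap A (D l).X (a k) ^ m * z) = 0 := by
        have h3 : RingHom.ker (D l).β = Jm J (D l).X := (D l).ker
        rw [← RingHom.mem_ker, h3]
        exact hm
      rw [map_mul, map_pow, AlgHom.commutes, hz] at h2
      rw [← map_pow, algebraMap_smul, Algebra.smul_def, map_pow, h2]
    choose m hm using hl
    refine ⟨Finset.univ.sup m + n, fR R a k ^ Finset.univ.sup m • r, ?_⟩
    funext l
    rw [map_smul, Pi.smul_apply, Pi.smul_apply, pow_add, mul_smul, eq_comm, ← sub_eq_zero]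
    refine (smul_sub _ _ _).symm.trans ?_
    rw [← Nat.sub_add_cancel (Finset.le_sup (f := m) (Finset.mem_univ l)), pow_add, mul_smul]
    exact (congrArg _ (hm l)).trans (smul_zero _)
  obtain ⟨r, hr, hcr⟩ := descend (fR R a) hsurj hinj Φ₀ v (c ⊗ₜ 1) hz hv fun m hm k => by
    have h : algebraMap R (Localization.Away (fR R a k)) m = algebraMap R (Localization.Away (fR R a k)) 0 := by
      rw [map_zero]; exact congrFun hm k
    obtain ⟨⟨_, p, rfl⟩, hp⟩ := (IsLocalization.eq_iff_exists (Submonoid.powers (fR R a k)) _).1 h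
    exact ⟨p, by rw [smul_eq_mul]; simpa using hp⟩
  refine ⟨r, ?_, fun i => congrFun hr i⟩
  have h1 := congrArg (TensorProduct.rid R (C ⧸ Jm J C)) hcr
  rw [TensorProduct.rid_tmul, one_smul, TensorProduct.rid_tmul] at h1
  rw [h1, Algebra.algebraMap_eq_smul_one]

include hsurj hinj in
theorem q_unique (r : R) (h1 : algebraMap R (C ⧸ Jm J C) r = 0)
    (h2 : ∀ i, algebraMap R (Localization.Away (fR R a i)) r = 0) : r = 0 := by
  refine eq_zero_of_one_tmul (fR R a) hsurj hinj r (fun k => ?_) ?_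
  · have h : algebraMap R (Localization.Away (fR R a k)) r = algebraMap R (Localization.Away (fR R a k)) 0 := by
      rw [h2 k, map_zero]
    obtain ⟨⟨_, p, rfl⟩, hp⟩ := (IsLocalization.eq_iff_exists (Submonoid.powers (fR R a k)) _).1 h
    exact ⟨p, by rw [smul_eq_mul]; simpa using hp⟩
  · rw [show r = r • (1 : R) by simp, ← TensorProduct.smul_tmul, ← Algebra.algebraMap_eq_smul_one, h1,
      TensorProduct.zero_tmul]

end Groth.Agent.EtaleGlueLib
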