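import Groth.Agent.EtaleGlueLib.Main
import Mathlib.RingTheory.RingHom.Etale
import Mathlib.RingTheory.FiniteType

/-! Properties of the glued algebra; the square-zero lifting theorem. -/

set_option autoImplicit false
set_option linter.style.haveILetI false
set_option linter.unusedSectionVars false
open scoped TensorProduct

universe u

namespace Groth.Agent.EtaleGlueLib

variable {A : Type u} [CommRing A]

/-- Étaleness away from an ideal, checked on a generating family. -/
theorem etale_away_of_span {B : Type u} [CommRing B] [Algebra A B] {ι : Type} (a : ι → A) (X : ι → Type u)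
    [∀ i, CommRing (X i)] [∀ i, Algebra A (X i)] [∀ i, Algebra B (X i)] [∀ i, IsScalarTower A B (X i)]
    [∀ i, Algebra.Etale A (X i)] [∀ i, IsLocalization.Away (algebraMap A B (a i)) (X i)] (c : A)
    (hc : c ∈ Ideal.span (Set.range a)) : Algebra.Etale A (Localization.Away (algebraMap A B c)) := by
  let S := Localization.Away (algebraMap A B c)
  have hspan : Ideal.span (Set.range fun i => algebraMap A S (a i)) = ⊤ := by
    refine Ideal.eq_top_of_isUnit_mem _ ?_ (?_ : IsUnit (algebraMap A S c))
    · have h := Ideal.mem_map_of_mem (algebraMap A S) hc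
      rw [Ideal.map_span, ← Set.range_comp] at h
      exact h
    · rw [IsScalarTower.algebraMap_apply A B S]
      exact IsLocalization.Away.algebraMap_isUnit _
  refine RingHom.etale_algebraMap.1 (RingHom.Etale.ofLocalizationSpanTarget (algebraMap A S) _ hspan ?_)
  rintro ⟨_, i, rfl⟩
  rw [← IsScalarTower.algebraMap_eq, RingHom.etale_algebraMap]
  let X' := Localization.Away (algebraMap B (X i) (algebraMap A B c))
  let S' := Localization.Away (algebraMap A S (a i))
  haveI : Algebra.Etale A X' := etale_away _ _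
  haveI h1 : IsLocalization.Away (algebraMap A B (a i) * algebraMap A B c) X' :=
    IsLocalization.Away.mul' (X i) X' (algebraMap A B (a i)) (algebraMap A B c)
  haveI h2 : IsLocalization.Away (algebraMap B S (algebraMap A B (a i))) S' := by
    rw [← IsScalarTower.algebraMap_apply]; infer_instance
  haveI h3 : IsLocalization.Away (algebraMap A B (a i) * algebraMap A B c) S' :=
    IsLocalization.Away.mul S S' (algebraMap A B c) (algebraMap A B (a i))
  exact Algebra.Etale.of_equiv ((IsLocalization.algEquiv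
    (Submonoid.powers (algebraMap A B (a i) * algebraMap A B c)) X' S').restrictScalars A)

theorem exists_lift_of_surjective {B R T : Type u} [CommRing B] [CommRing R] [CommRing T] [Algebra B T] [Algebra R T]
    [Algebra.Etale R T] (q : B →+* R) (hq : Function.Surjective q) (K : Ideal B) (hK : RingHom.ker q = K)
    (hc : ∀ b, algebraMap B T b = algebraMap R T (q b)) :
    ∃ (C' : Type u) (_ : CommRing C') (_ : Algebra B C') (_ : Algebra.Etale B C') (φ : C' →ₐ[B] T),
      Function.Surjective φ ∧ RingHom.ker φ = K.map (algebraMap B C') := by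
  subst hK
  letI : Algebra (B ⧸ RingHom.ker q) T := ((algebraMap R T).comp (RingHom.kerLift q)).toAlgebra
  haveI : IsScalarTower B (B ⧸ RingHom.ker q) T := IsScalarTower.of_algebraMap_eq fun b => hc b
  haveI : Algebra.Etale (B ⧸ RingHom.ker q) T := by
    rw [← RingHom.etale_algebraMap, RingHom.algebraMap_toAlgebra]
    exact RingHom.Etale.stableUnderComposition _ _ (RingHom.Etale.of_bijective
      ⟨RingHom.kerLift_injective q, fun r => by
        obtain ⟨x, hx⟩ := hq r
        exact ⟨Ideal.Quotient.mk _ x, hx⟩⟩) (RingHom.etale_algebraMap.2 inferInstance)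
  exact HenselLib.exists_etale_lift (RingHom.ker q) T

variable {J : Ideal A} {R : Type u} [CommRing R] [Algebra A R]
  {C : Type u} [CommRing C] [Algebra A C] [Algebra R (C ⧸ Jm J C)] [IsScalarTower A R (C ⧸ Jm J C)]
  [Algebra.Etale R (C ⧸ Jm J C)]
  (hJ : J * J = ⊥) {ι : Type} [Fintype ι] [DecidableEq ι] {a : ι → A} [hY : ∀ l, Module.Flat A (Yl C a l)]
  (D : ∀ i, LiftData J (fR R a i))
  (hsurj : ∀ c : C ⧸ Jm J C, ∃ b : R, c - algebraMap R _ b ∈
    (Ideal.span (Set.range (fR R a))).map (algebraMap R (C ⧸ Jm J C)))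
  (hinj : ∀ b : R, algebraMap R (C ⧸ Jm J C) b ∈ (Ideal.span (Set.range (fR R a))).map (algebraMap R (C ⧸ Jm J C)) →
    b ∈ Ideal.span (Set.range (fR R a)))
  (hR : ∀ j ∈ J, algebraMap A R j = 0)

include hsurj hinj hR hY in
theorem finiteType_glue [Algebra.FiniteType A R] : Algebra.FiniteType A (glue (C := C) hJ D) := by
  obtain ⟨s, hs⟩ := (Algebra.FiniteType.out : (⊤ : Subalgebra A R).FG)
  choose L hL using qB_surjective hJ D hsurj hinj
  classical
  refine ⟨⟨s.image L, ?_⟩⟩
  set S := Algebra.adjoin A ((s.image L : Finset _) : Set (glue (C := C) hJ D))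
  have hq : ∀ r, ∃ x ∈ S, qB hJ D hsurj hinj x = r := by
    have h : (⊤ : Subalgebra A R) ≤ S.map (qB hJ D hsurj hinj) := by
      rw [← hs]
      refine Algebra.adjoin_le fun r hr => ⟨L r, Algebra.subset_adjoin ?_, hL r⟩
      exact Finset.mem_coe.2 (Finset.mem_image_of_mem _ hr)
    exact fun r => h (Algebra.mem_top (x := r))
  refine top_unique fun x _ => ?_
  obtain ⟨y, hy, hyx⟩ := hq (qB hJ D hsurj hinj x)
  have hk : x - y ∈ Jm J (glue (C := C) hJ D) := by
    rw [← ker_qB hJ D hsurj hinj hR, RingHom.mem_ker, map_sub, hyx, sub_self]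
  have hJS : ∀ d ∈ Jm J (glue (C := C) hJ D), d ∈ S := by
    intro d hd
    induction hd using Submodule.span_induction with
    | mem w hw => obtain ⟨j, -, rfl⟩ := hw; exact S.algebraMap_mem j
    | zero => exact zero_mem S
    | add u v _ _ hu hv => exact add_mem hu hv
    | smul t u hu' hu =>
      obtain ⟨z, hz, hzt⟩ := hq (qB hJ D hsurj hinj t)
      have hk' : t - z ∈ Jm J (glue (C := C) hJ D) := by
        rw [← ker_qB hJ D hsurj hinj hR, RingHom.mem_ker, map_sub, hzt, sub_self]
      have h0 : (t - z) * u = 0 := mul_eq_zero_of_mem hJ hk' hu'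
      rw [smul_eq_mul, show t * u = z * u from sub_eq_zero.1 (by rw [← sub_mul]; exact h0)]
      exact mul_mem hz hu
  rw [show x = y + (x - y) by ring]
  exact add_mem hy (hJS _ hk)

include hJ in
theorem isLocalization_glue (i : ι) :
    @IsLocalization.Away _ _ (algebraMap A (glue (C := C) hJ D) (a i)) (D i).X _ (glueSnd hJ D i).toRingHom.toAlgebra := by
  letI := (glueSnd (C := C) hJ D i).toRingHom.toAlgebra
  refine IsLocalization.Away.mk _ ?_ (fun y => ?_) (fun x y h => ?_)
  · change IsUnit (glueSnd hJ D i (algebraMap A _ (a i)))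
    rw [AlgHom.commutes]
    exact isUnit_X hJ D i
  · obtain ⟨n, x, hx⟩ := glue_exists_ext (C := C) hJ D i y
    refine ⟨n, x, ?_⟩
    change y * glueSnd hJ D i (algebraMap A _ (a i)) ^ n = glueSnd hJ D i x
    rw [AlgHom.commutes, hx, mul_comm]
  · obtain ⟨n, hn⟩ := glue_sep hJ D i (x - y) (by rw [map_sub]; exact sub_eq_zero.2 h)
    exact ⟨n, sub_eq_zero.1 (by rw [← mul_sub]; exact hn)⟩

include hJ in
theorem etale_glue_away (c : A) (hc : c ∈ Ideal.span (Set.range a)) :
    Algebra.Etale A (Localization.Away (algebraMap A (glue (C := C) hJ D) c)) := by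
  letI : ∀ i, Algebra (glue (C := C) hJ D) (D i).X := fun i => (glueSnd hJ D i).toRingHom.toAlgebra
  haveI : ∀ i, IsScalarTower A (glue (C := C) hJ D) (D i).X := fun i =>
    IsScalarTower.of_algebraMap_eq fun x => ((glueSnd hJ D i).commutes x).symm
  haveI : ∀ i, IsLocalization.Away (algebraMap A (glue (C := C) hJ D) (a i)) (D i).X := fun i => isLocalization_glue hJ D i
  exact etale_away_of_span a (fun i => (D i).X) c hc

include hsurj hinj hR hY in
theorem etale_glueFst :
    @Algebra.Etale (glue (C := C) hJ D) C _ _ (glueFst hJ D).toRingHom.toAlgebra := by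
  letI : Algebra (glue (C := C) hJ D) C := (glueFst hJ D).toRingHom.toAlgebra
  haveI : IsScalarTower A (glue (C := C) hJ D) C :=
    IsScalarTower.of_algebraMap_eq fun x => ((glueFst hJ D).commutes x).symm
  obtain ⟨C', _, _, _, φ, hφ, hφk⟩ := exists_lift_of_surjective (B := glue (C := C) hJ D) (T := C ⧸ Jm J C)
    (qB hJ D hsurj hinj).toRingHom (qB_surjective hJ D hsurj hinj) _ (ker_qB hJ D hsurj hinj hR)
    fun b => (qB_T hJ D hsurj hinj b).symm
  letI : Algebra A C' := ((algebraMap (glue (C := C) hJ D) C').comp (algebraMap A (glue (C := C) hJ D))).toAlgebra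
  haveI : IsScalarTower A (glue (C := C) hJ D) C' := IsScalarTower.of_algebraMap_eq fun _ => rfl
  have hφk' : RingHom.ker φ = Jm J C' := by
    rw [hφk, Jm, Jm, Ideal.map_map,
      ← IsScalarTower.algebraMap_eq]
  let f : C' →ₐ[(glue (C := C) hJ D)] C := Algebra.FormallySmooth.lift (Jm J C) (isNilpotent_Jm hJ) φ
  have hf : ∀ u, Ideal.Quotient.mk (Jm J C) (f u) = φ u := fun u => Algebra.FormallySmooth.mk_lift _ _ _ u
  let fA : C' →ₐ[A] C := f.restrictScalars A
  have hqsurj : Function.Surjective (qmap (J := J) fA) := fun t => by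
    obtain ⟨u, hu⟩ := hφ t
    exact ⟨Ideal.Quotient.mk _ u, (hf u).trans hu⟩
  have hqinj : Function.Injective (qmap (J := J) fA) := by
    rw [injective_iff_map_eq_zero]
    intro t ht
    obtain ⟨u, rfl⟩ := Ideal.Quotient.mk_surjective t
    rw [Ideal.Quotient.eq_zero_iff_mem, ← hφk', RingHom.mem_ker]
    exact (hf u).symm.trans ht
  let e' : (C' ⧸ Jm J C') ≃ₐ[A] (C ⧸ Jm J C) := AlgEquiv.ofBijective (qmap fA) ⟨hqinj, hqsurj⟩
  have hfsurj : Function.Surjective f := by
    intro c
    have hkey : ∀ d ∈ Jm J C, ∃ w ∈ Jm J C', f w = d := by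
      intro d hd
      induction hd using Submodule.span_induction with
      | mem w hw =>
        obtain ⟨j, hj, rfl⟩ := hw
        exact ⟨algebraMap A C' j, Ideal.mem_map_of_mem _ hj, fA.commutes j⟩
      | zero => exact ⟨0, zero_mem _, map_zero f⟩
      | add u v _ _ hu hv =>
        obtain ⟨p, hp, rfl⟩ := hu
        obtain ⟨r, hr, rfl⟩ := hv
        exact ⟨p + r, add_mem hp hr, map_add f p r⟩
      | smul t u hu' hu =>
        obtain ⟨p, hp, rfl⟩ := hu
        obtain ⟨s, hs⟩ := hφ (Ideal.Quotient.mk _ t)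
        refine ⟨s * p, Ideal.mul_mem_left _ _ hp, ?_⟩
        rw [map_mul, smul_eq_mul]
        refine sub_eq_zero.1 ?_
        rw [← sub_mul]
        exact mul_eq_zero_of_mem hJ ((Ideal.Quotient.eq).1 ((hf s).trans hs)) hu'
    obtain ⟨u, hu⟩ := hφ (Ideal.Quotient.mk _ c)
    obtain ⟨w, -, hw⟩ := hkey (c - f u) ((Ideal.Quotient.eq).1 (by rw [hf, hu]))
    exact ⟨u + w, by rw [map_add, hw, add_sub_cancel]⟩
  have hglue : ∀ p : R ⊗[A] J, ∃ b : (glue (C := C) hJ D), glueFst hJ D b = psi0 hJ (C := C) ((1 : C ⧸ Jm J C) ⊗ₜ[R] p) ∧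
      (∀ i, glueSnd hJ D i b = mi hJ D i (locJ (fR R a i) p)) ∧
      algebraMap (glue (C := C) hJ D) C' b = mu hJ (LinearMap.rTensor J e'.symm.toLinearMap
        (TensorProduct.AlgebraTensorModule.cancelBaseChange A R R (C ⧸ Jm J C) J ((1 : C ⧸ Jm J C) ⊗ₜ[R] p))) := by
    intro p
    induction p with
    | zero => exact ⟨0, by simp, fun i => by simp, by simp⟩
    | add p q hp hq =>
      obtain ⟨b, hb1, hb2, hb3⟩ := hp
      obtain ⟨c, hc1, hc2, hc3⟩ := hq
      exact ⟨b + c, by rw [TensorProduct.tmul_add, map_add, map_add, hb1, hc1],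
        fun i => by rw [map_add, map_add, map_add, hb2, hc2],
        by simp only [TensorProduct.tmul_add, map_add, hb3, hc3]⟩
    | tmul r j =>
      obtain ⟨x, rfl⟩ := qB_surjective hJ D hsurj hinj r
      refine ⟨(j : A) • x, ?_, fun i => ?_, ?_⟩
      · rw [map_smul, ← map_one (Ideal.Quotient.mk (Jm J C)),
          psi0_tmul hJ 1 _ j (glueFst hJ D x) (qB_T hJ D hsurj hinj x).symm, one_mul]
      · rw [map_smul, locJ_tmul, mi, muL_tmul hJ _ _ j (glueSnd hJ D i x)]
        refine (D i).equiv.injective ?_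
        erw [LiftData.equiv_mk, AlgEquiv.apply_symm_apply]
        exact (qB_L hJ D hsurj hinj x i).symm
      · rw [TensorProduct.AlgebraTensorModule.cancelBaseChange_tmul, LinearMap.rTensor_tmul]
        have e1 : e'.symm.toLinearMap (qB hJ D hsurj hinj x • (1 : C ⧸ Jm J C)) =
            Ideal.Quotient.mk (Jm J C') (algebraMap (glue (C := C) hJ D) C' x) := by
          apply e'.injective
          rw [Algebra.smul_def, mul_one, qB_T]
          change e' (e'.symm _) = qmap fA (Ideal.Quotient.mk _ _)
          rw [AlgEquiv.apply_symm_apply, qmap_mk]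
          exact congrArg (Ideal.Quotient.mk _) (f.commutes x).symm
        rw [e1, mu_mk, Algebra.smul_def, map_mul, ← IsScalarTower.algebraMap_apply, ← Algebra.smul_def]
  have hfinj : Function.Injective f := by
    rw [injective_iff_map_eq_zero]
    intro k hk
    have hk1 : k ∈ Jm J C' := by
      rw [← hφk', RingHom.mem_ker, ← hf, hk, map_zero]
    obtain ⟨q', rfl⟩ := mu_surjective hJ hk1
    set z := (TensorProduct.AlgebraTensorModule.cancelBaseChange A R R (C ⧸ Jm J C) J).symm
      (LinearMap.rTensor J e'.toLinearMap q') with hz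
    have hz0 : psi0 hJ z = 0 := by
      rw [psi0, hz, LinearMap.comp_apply, LinearEquiv.coe_coe, LinearEquiv.restrictScalars_apply,
        LinearEquiv.apply_symm_apply]
      exact (mu_natural hJ fA q').symm.trans hk
    obtain ⟨p, hp, hzp⟩ := exists_tensor_ker hJ hsurj z fun l => by rw [hz0, map_zero]
    obtain ⟨b, hb1, hb2, hb3⟩ := hglue p
    have hb : b = 0 := glue_ext hJ D (by rw [hb1, ← hzp, hz0, map_zero]) fun i => by
      rw [hb2, show locJ (fR R a i) p = 0 from congrFun hp i, map_zero, map_zero]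
    rw [hb, map_zero, ← hzp, hz, LinearEquiv.apply_symm_apply, ← LinearMap.rTensor_comp_apply,
      show e'.symm.toLinearMap ∘ₗ e'.toLinearMap = LinearMap.id from LinearMap.ext fun t => e'.symm_apply_apply t,
      LinearMap.rTensor_id] at hb3
    exact hb3.symm
  exact Algebra.Etale.of_equiv (AlgEquiv.ofBijective f ⟨hfinj, hfsurj⟩)

end Groth.Agent.EtaleGlueLib
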