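import Groth.Agent.EtaleGlueLib.Props
import Mathlib.RingTheory.Noetherian.Basic
import Mathlib.RingTheory.Etale.Basic
import Mathlib.RingTheory.Smooth.Flat

/-! Étale lifting along a square-zero ideal. -/

set_option autoImplicit false
set_option linter.style.haveILetI false
set_option linter.unusedSectionVars false
open scoped TensorProduct

universe u

namespace Groth.Agent.EtaleGlueLib

/-- The statement to be proved by induction. -/
def Concl (A : Type u) [CommRing A] (I J : Ideal A) (C : Type u) [CommRing C] [Algebra A C] (R : Type u) [CommRing R]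
    [Algebra A R] [Algebra R (C ⧸ Jm J C)] : Prop :=
  ∃ (B : Type u) (_ : CommRing B) (_ : Algebra A B) (_ : Algebra B C) (_ : IsScalarTower A B C) (_ : Algebra B R)
    (_ : IsScalarTower A B R),
    Algebra.FiniteType A B ∧ Algebra.Etale B C ∧
      (∀ a ∈ I, Algebra.Etale A (Localization.Away (algebraMap A B a))) ∧
      Function.Surjective (algebraMap B R) ∧ RingHom.ker (algebraMap B R) = Jm J B ∧
      (∀ b : B, algebraMap R (C ⧸ Jm J C) (algebraMap B R b) = Ideal.Quotient.mk (Jm J C) (algebraMap B C b)) ∧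
      ((∀ c : C, ∃ b : B, algebraMap B C b - c ∈ I.map (algebraMap A C)) ∧
        ∀ b : B, algebraMap B C b ∈ I.map (algebraMap A C) → b ∈ I.map (algebraMap A B))

theorem bij_mod {A : Type u} [CommRing A] {I J : Ideal A} (hJfg : J.FG) (hIfg : I.FG) (hJ : J * J = ⊥)
    {B C R : Type u} [CommRing B] [Algebra A B] [CommRing C] [Algebra A C] [Algebra B C] [IsScalarTower A B C]
    [CommRing R] [Algebra A R] [Algebra R (C ⧸ Jm J C)] [IsScalarTower A R (C ⧸ Jm J C)] [Module.Flat B C]
    (q : B →ₐ[A] R) (hq : Function.Surjective q) (hker : RingHom.ker q = Jm J B)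
    (hc : ∀ b, algebraMap R (C ⧸ Jm J C) (q b) = Ideal.Quotient.mk (Jm J C) (algebraMap B C b))
    (h3s : ∀ c : C ⧸ Jm J C, ∃ r : R, algebraMap R (C ⧸ Jm J C) r - c ∈ I.map (algebraMap A (C ⧸ Jm J C)))
    (h3i : ∀ r : R, algebraMap R (C ⧸ Jm J C) r ∈ I.map (algebraMap A (C ⧸ Jm J C)) → r ∈ I.map (algebraMap A R)) :
    (∀ c : C, ∃ b : B, algebraMap B C b - c ∈ I.map (algebraMap A C)) ∧
      ∀ b : B, algebraMap B C b ∈ I.map (algebraMap A C) → b ∈ I.map (algebraMap A B) := by
  classical
  have hIT : I.map (algebraMap A (C ⧸ Jm J C)) = (I.map (algebraMap A C)).map (Ideal.Quotient.mk (Jm J C)) := by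
    rw [Ideal.map_map]; rfl
  have hIR : I.map (algebraMap A R) = (I.map (algebraMap A B)).map q := by
    rw [← Ideal.map_coe q, Ideal.map_map, q.comp_algebraMap]
  have hJT : ∀ d ∈ Jm J C, Ideal.Quotient.mk (Jm J C) d = 0 := fun d hd => Ideal.Quotient.eq_zero_iff_mem.2 hd
  have hs0 : ∀ c : C, ∃ (b : B) (d : C), d ∈ Jm J C ∧ algebraMap B C b - c - d ∈ I.map (algebraMap A C) := by
    intro c
    obtain ⟨r, hr⟩ := h3s (Ideal.Quotient.mk _ c)
    obtain ⟨b, rfl⟩ := hq r
    rw [hc, ← map_sub, hIT, Ideal.mem_map_iff_of_surjective _ Ideal.Quotient.mk_surjective] at hr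
    obtain ⟨e, he, he'⟩ := hr
    refine ⟨b, algebraMap B C b - c - e, ?_, by rwa [sub_sub_cancel]⟩
    rw [← neg_sub, neg_mem_iff]
    exact (Ideal.Quotient.eq).1 he'
  have hJC : ∀ d ∈ Jm J C, ∃ b : B, algebraMap B C b - d ∈ I.map (algebraMap A C) := by
    intro d hd
    induction hd using Submodule.span_induction with
    | mem w hw =>
      obtain ⟨j, -, rfl⟩ := hw
      exact ⟨algebraMap A B j, by rw [← IsScalarTower.algebraMap_apply, sub_self]; exact zero_mem _⟩
    | zero => exact ⟨0, by simp⟩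
    | add u v _ _ hu hv =>
      obtain ⟨p, hp⟩ := hu
      obtain ⟨r, hr⟩ := hv
      refine ⟨p + r, ?_⟩
      convert add_mem hp hr using 1
      rw [map_add]; ring
    | smul t u hu' hu =>
      obtain ⟨p, hp⟩ := hu
      obtain ⟨b, e, he, hb⟩ := hs0 t
      refine ⟨b * p, ?_⟩
      have h0 : e * u = 0 := mul_eq_zero_of_mem hJ he hu'
      convert add_mem (Ideal.mul_mem_left _ (algebraMap B C b) hp) (Ideal.mul_mem_right u _ hb) using 1
      rw [smul_eq_mul, map_mul]
      linear_combination h0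
  have hs : ∀ c : C, ∃ b : B, algebraMap B C b - c ∈ I.map (algebraMap A C) := by
    intro c
    obtain ⟨b, d, hd, hb⟩ := hs0 c
    obtain ⟨p, hp⟩ := hJC d hd
    refine ⟨b - p, ?_⟩
    convert sub_mem hb hp using 1
    rw [map_sub]; ring
  refine ⟨hs, fun x hx => ?_⟩
  have hqx : q x ∈ I.map (algebraMap A R) := h3i _ (by
    rw [hc, hIT]; exact Ideal.mem_map_of_mem _ hx)
  rw [hIR, Ideal.mem_map_iff_of_surjective _ hq] at hqx
  obtain ⟨y, hy, hyq⟩ := hqx
  have hxy : x - y ∈ Jm J B := by rw [← hker, RingHom.mem_ker, map_sub, hyq, sub_self]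
  suffices h : x - y ∈ I.map (algebraMap A B) by simpa using add_mem h hy
  have hxyC : algebraMap B C (x - y) ∈ I.map (algebraMap A C) := by
    rw [map_sub]
    refine sub_mem hx ?_
    rw [IsScalarTower.algebraMap_eq A B C, ← Ideal.map_map]
    exact Ideal.mem_map_of_mem _ hy
  obtain ⟨n, gI, hgI⟩ := Submodule.fg_iff_exists_fin_generating_family.1 hIfg
  obtain ⟨m, gJ, hgJ⟩ := Submodule.fg_iff_exists_fin_generating_family.1 hJfg
  let f : Fin n ⊕ Fin m → B := fun i => algebraMap A B (Sum.elim gI gJ i)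
  have hf : Ideal.span (Set.range f) = (I ⊔ J).map (algebraMap A B) := by
    rw [show f = algebraMap A B ∘ Sum.elim gI gJ from rfl, Set.range_comp, ← Ideal.map_span, Set.Sum.elim_range,
      Ideal.span_union]
    rw [show Ideal.span (Set.range gI) = I from hgI, show Ideal.span (Set.range gJ) = J from hgJ]
  have hfC : (Ideal.span (Set.range f)).map (algebraMap B C) = I.map (algebraMap A C) ⊔ Jm J C := by
    rw [hf, Ideal.map_map, ← IsScalarTower.algebraMap_eq, Ideal.map_sup]
  have h0 : (Ideal.Quotient.mk (I.map (algebraMap A B)) (x - y)) = 0 := by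
    refine eq_zero_of_one_tmul (T := C) f (fun c => ?_) (fun b hb => ?_) (M := B ⧸ I.map (algebraMap A B)) _
      (fun i => ⟨1, ?_⟩) ?_
    · obtain ⟨b, hb⟩ := hs c
      exact ⟨b, by rw [hfC]; exact Submodule.mem_sup_left (by rw [← neg_sub, neg_mem_iff]; exact hb)⟩
    · rw [hfC, Submodule.mem_sup] at hb
      obtain ⟨u, hu, v, hv, huv⟩ := hb
      have hqb : q b ∈ I.map (algebraMap A R) := h3i _ (by
        rw [hc, ← huv, map_add, hJT v hv, add_zero, hIT]; exact Ideal.mem_map_of_mem _ hu)
      rw [hIR, Ideal.mem_map_iff_of_surjective _ hq] at hqb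
      obtain ⟨w, hw, hwq⟩ := hqb
      rw [hf, Ideal.map_sup, show b = w + (b - w) by ring]
      refine add_mem (Submodule.mem_sup_left hw) (Submodule.mem_sup_right ?_)
      change b - w ∈ Jm J B
      rw [← hker, RingHom.mem_ker, map_sub, hwq, sub_self]
    · rw [pow_one]
      change Ideal.Quotient.mk (I.map (algebraMap A B)) (f i * (x - y)) = 0
      rcases i with i | i
      · exact Ideal.Quotient.eq_zero_iff_mem.2 (Ideal.mul_mem_right _ _ (Ideal.mem_map_of_mem _
          (hgI ▸ Submodule.subset_span (Set.mem_range_self i))))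
      · change Ideal.Quotient.mk _ (algebraMap A B (gJ i) * (x - y)) = 0
        rw [mul_eq_zero_of_mem hJ (Ideal.mem_map_of_mem _ (hgJ ▸ Submodule.subset_span (Set.mem_range_self i) :
          gJ i ∈ J)) hxy, map_zero]
    · have e1 : (1 : C) ⊗ₜ[B] Ideal.Quotient.mk (I.map (algebraMap A B)) (x - y) =
          algebraMap B C (x - y) ⊗ₜ[B] Ideal.Quotient.mk (I.map (algebraMap A B)) 1 := by
        rw [Algebra.algebraMap_eq_smul_one, TensorProduct.smul_tmul]
        congr 1
        exact (congrArg (Ideal.Quotient.mk _) (mul_one (x - y))).symm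
      rw [e1]
      revert hxyC
      generalize algebraMap B C (x - y) = t
      intro ht
      induction ht using Submodule.span_induction with
      | mem w hw =>
        obtain ⟨c, hc', rfl⟩ := hw
        rw [IsScalarTower.algebraMap_apply A B C, Algebra.algebraMap_eq_smul_one, TensorProduct.smul_tmul]
        refine (congrArg _ (?_ : _ = (0 : B ⧸ I.map (algebraMap A B)))).trans (TensorProduct.tmul_zero _ _)
        exact Ideal.Quotient.eq_zero_iff_mem.2 (Ideal.mul_mem_right (1 : B) _ (Ideal.mem_map_of_mem _ hc'))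
      | zero => simp
      | add u v _ _ hu hv => rw [TensorProduct.add_tmul, hu, hv, add_zero]
      | smul t u _ hu => rw [← TensorProduct.smul_tmul', hu, smul_zero]
  exact Ideal.Quotient.eq_zero_iff_mem.1 h0

theorem square_zero (A : Type u) [CommRing A] [IsNoetherianRing A] (I J : Ideal A) (hJ : J * J = ⊥) (C : Type u)
    [CommRing C] [Algebra A C] (hC : ∀ a ∈ I, Algebra.Etale A (Localization.Away (algebraMap A C a))) (R : Type u)
    [CommRing R] [Algebra A R] [Algebra (A ⧸ J) R] [IsScalarTower A (A ⧸ J) R] [Algebra.FiniteType A R]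
    (hRet : ∀ a ∈ I, Algebra.Etale (A ⧸ J) (Localization.Away (algebraMap A R a)))
    [Algebra R (C ⧸ Jm J C)] [IsScalarTower A R (C ⧸ Jm J C)] [Algebra.Etale R (C ⧸ Jm J C)]
    (h3s : ∀ c : C ⧸ Jm J C, ∃ r : R, algebraMap R (C ⧸ Jm J C) r - c ∈ I.map (algebraMap A (C ⧸ Jm J C)))
    (h3i : ∀ r : R, algebraMap R (C ⧸ Jm J C) r ∈ I.map (algebraMap A (C ⧸ Jm J C)) → r ∈ I.map (algebraMap A R)) :
    Concl A I J C R := by
  classical
  obtain ⟨n, a, ha⟩ := Submodule.fg_iff_exists_fin_generating_family.1 (IsNoetherian.noetherian I)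
  have hIa : Ideal.span (Set.range a) = I := ha
  have hmem : ∀ i, a i ∈ I := fun i => hIa ▸ Submodule.subset_span (Set.mem_range_self i)
  have hIR : Ideal.span (Set.range (fR R a)) = I.map (algebraMap A R) := by
    rw [← hIa, Ideal.map_span, ← Set.range_comp]
    rfl
  have hIT : (Ideal.span (Set.range (fR R a))).map (algebraMap R (C ⧸ Jm J C)) =
      I.map (algebraMap A (C ⧸ Jm J C)) := by
    rw [hIR, Ideal.map_map, ← IsScalarTower.algebraMap_eq]
  have hD : ∀ i, Nonempty (LiftData J (fR R a i)) := fun i => by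
    haveI := hRet (a i) (hmem i)
    exact exists_liftData _
  let D := fun i => (hD i).some
  haveI : ∀ l, Module.Flat A (Yl C a l) := fun l => by
    haveI := hC (a l) (hmem l)
    infer_instance
  have hsurj : ∀ c : C ⧸ Jm J C, ∃ b : R, c - algebraMap R _ b ∈
      (Ideal.span (Set.range (fR R a))).map (algebraMap R (C ⧸ Jm J C)) := fun c => by
    obtain ⟨r, hr⟩ := h3s c
    exact ⟨r, by rw [hIT, ← neg_sub, neg_mem_iff]; exact hr⟩
  have hinj : ∀ b : R, algebraMap R (C ⧸ Jm J C) b ∈
      (Ideal.span (Set.range (fR R a))).map (algebraMap R (C ⧸ Jm J C)) → b ∈ Ideal.span (Set.range (fR R a)) :=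
    fun b hb => by rw [hIR]; exact h3i b (hIT ▸ hb)
  have hR : ∀ j ∈ J, algebraMap A R j = 0 := fun j hj => by
    rw [IsScalarTower.algebraMap_apply A (A ⧸ J) R, Ideal.Quotient.algebraMap_eq, Ideal.Quotient.eq_zero_iff_mem.2 hj,
      map_zero]
  let B := glue (C := C) hJ D
  letI : Algebra B C := (glueFst hJ D).toRingHom.toAlgebra
  letI : Algebra B R := (qB hJ D hsurj hinj).toRingHom.toAlgebra
  haveI : IsScalarTower A B C := IsScalarTower.of_algebraMap_eq fun x => ((glueFst hJ D).commutes x).symm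
  haveI : IsScalarTower A B R := IsScalarTower.of_algebraMap_eq fun x => ((qB hJ D hsurj hinj).commutes x).symm
  haveI : Algebra.Etale B C := etale_glueFst hJ D hsurj hinj hR
  refine ⟨B, inferInstance, inferInstance, inferInstance, inferInstance, inferInstance, inferInstance,
    finiteType_glue hJ D hsurj hinj hR, inferInstance, fun c hc => etale_glue_away hJ D c (hIa.symm ▸ hc),
    qB_surjective hJ D hsurj hinj, ker_qB hJ D hsurj hinj hR, qB_T hJ D hsurj hinj, ?_⟩
  exact bij_mod (IsNoetherian.noetherian J) (IsNoetherian.noetherian I) hJ (qB hJ D hsurj hinj)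
    (qB_surjective hJ D hsurj hinj) (ker_qB hJ D hsurj hinj hR) (qB_T hJ D hsurj hinj) h3s h3i

end Groth.Agent.EtaleGlueLib
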