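import Groth.Agent.EtaleGlueLib.Tools
import Groth.Agent.HenselLib.EtaleLift
import Mathlib.RingTheory.Localization.Away.Basic

/-! Thickenings of `R` and lifts of étale localisations. -/

set_option autoImplicit false
set_option linter.style.haveILetI false
set_option linter.unusedSectionVars false
open scoped TensorProduct

universe u

namespace Groth.Agent.EtaleGlueLib

variable {A : Type u} [CommRing A] {J : Ideal A} {R : Type u} [CommRing R] [Algebra A R]

/-- `T` is the localisation of `R` at `f` along `ρ`. -/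
structure IsLocAt {T : Type u} [CommRing T] [Algebra A T] (ρ : R →ₐ[A] T) (f : R) : Prop where
  isUnit : IsUnit (ρ f)
  surj : ∀ t, ∃ (r : R) (n : ℕ), t * ρ f ^ n = ρ r
  ker : ∀ r, ρ r = 0 → ∃ n : ℕ, f ^ n * r = 0

section LocHom

variable {T : Type u} [CommRing T] [Algebra A T]

/-- The map out of `R_f`. -/
noncomputable def locHom (ρ : R →ₐ[A] T) (f : R) (hu : IsUnit (ρ f)) : Localization.Away f →ₐ[A] T :=
  IsLocalization.liftAlgHom (M := Submonoid.powers f) (f := ρ) (by
    rintro ⟨_, n, rfl⟩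
    rw [map_pow]
    exact hu.pow n)

theorem locHom_alg (ρ : R →ₐ[A] T) (f : R) (hu : IsUnit (ρ f)) (r : R) :
    locHom ρ f hu (algebraMap R (Localization.Away f) r) = ρ r :=
  IsLocalization.lift_eq _ r

theorem locHom_ext {f : R} (φ ψ : Localization.Away f →ₐ[A] T)
    (h : ∀ r, φ (algebraMap R (Localization.Away f) r) = ψ (algebraMap R (Localization.Away f) r)) : φ = ψ :=
  AlgHom.coe_ringHom_injective (IsLocalization.ringHom_ext (Submonoid.powers f) (RingHom.ext h))

theorem locHom_bijective {ρ : R →ₐ[A] T} {f : R} (h : IsLocAt ρ f) : Function.Bijective (locHom ρ f h.isUnit) := by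
  constructor
  · rw [injective_iff_map_eq_zero]
    intro x hx
    obtain ⟨n, r, hr⟩ := IsLocalization.Away.surj f x
    have h1 := congrArg (locHom ρ f h.isUnit) hr
    rw [map_mul, hx, zero_mul, locHom_alg] at h1
    obtain ⟨m, hm⟩ := h.ker r h1.symm
    have hu := ((IsLocalization.Away.algebraMap_isUnit (S := Localization.Away f) f).pow (n + m))
    apply hu.mul_left_eq_zero.1
    rw [pow_add, ← mul_assoc, hr, ← map_pow, ← map_mul, mul_comm r, hm, map_zero]
  · intro t
    obtain ⟨r, n, hr⟩ := h.surj t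
    refine ⟨IsLocalization.Away.invSelf f ^ n * algebraMap R (Localization.Away f) r, ?_⟩
    rw [map_mul, locHom_alg, ← hr, mul_left_comm, map_pow, ← mul_pow, ← locHom_alg ρ f h.isUnit f, ← map_mul]
    rw [mul_comm (IsLocalization.Away.invSelf f), IsLocalization.Away.mul_invSelf, map_one, one_pow, mul_one]

end LocHom

/-- A lift of `R_f` to an étale `A`-algebra. -/
structure LiftData (J : Ideal A) (f : R) : Type (u + 1) where
  X : Type u
  [ring : CommRing X]
  [alg : Algebra A X]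
  [etale : Algebra.Etale A X]
  β : X →ₐ[A] Localization.Away f
  surj : Function.Surjective β
  ker : RingHom.ker β = Jm J X

attribute [instance] LiftData.ring LiftData.alg LiftData.etale

theorem exists_liftData [Algebra (A ⧸ J) R] [IsScalarTower A (A ⧸ J) R] (f : R)
    [Algebra.Etale (A ⧸ J) (Localization.Away f)] : Nonempty (LiftData J f) := by
  obtain ⟨X, _, _, _, φ, h1, h2⟩ := HenselLib.exists_etale_lift J (Localization.Away f)
  exact ⟨{ X := X, β := φ, surj := h1, ker := h2 }⟩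

namespace LiftData

variable {f : R} (D : LiftData J f)

/-- `X / J X ≅ R_f`. -/
noncomputable def equiv : (D.X ⧸ Jm J D.X) ≃ₐ[A] Localization.Away f :=
  (Ideal.quotientEquivAlgOfEq A D.ker.symm).trans (Ideal.quotientKerAlgEquivOfSurjective D.surj)

theorem equiv_mk (y : D.X) : D.equiv (Ideal.Quotient.mk (Jm J D.X) y) = D.β y :=
  Ideal.quotientKerAlgEquivOfSurjective_mk D.surj y

/-- The structure map of `X`. -/
noncomputable def ρ : R →ₐ[A] D.X ⧸ Jm J D.X :=
  D.equiv.symm.toAlgHom.comp (IsScalarTower.toAlgHom A R (Localization.Away f))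

theorem ρ_apply (r : R) : D.ρ r = D.equiv.symm (algebraMap R _ r) := rfl

theorem mk_eq_ρ {y : D.X} {r : R} (h : D.β y = algebraMap R _ r) : Ideal.Quotient.mk (Jm J D.X) y = D.ρ r := by
  rw [ρ_apply, AlgEquiv.eq_symm_apply, equiv_mk, h]

theorem exists_rep (r : R) : ∃ y : D.X, D.β y = algebraMap R _ r := D.surj _

theorem isLocAt : IsLocAt D.ρ f where
  isUnit := by rw [ρ_apply]; exact (IsLocalization.Away.algebraMap_isUnit f).map _
  surj t := by
    obtain ⟨n, r, hr⟩ := IsLocalization.Away.surj f (D.equiv t)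
    exact ⟨r, n, D.equiv.injective (by rw [map_mul, map_pow, ρ_apply, ρ_apply, D.equiv.apply_symm_apply,
      D.equiv.apply_symm_apply, hr])⟩
  ker r hr := by
    rw [ρ_apply, map_eq_zero_iff _ D.equiv.symm.injective, ← map_zero (algebraMap R (Localization.Away f))] at hr
    obtain ⟨⟨_, n, rfl⟩, hn⟩ := (IsLocalization.eq_iff_exists (Submonoid.powers f) _).1 hr
    exact ⟨n, by rw [hn, mul_zero]⟩

variable {X' : Type u} [CommRing X'] [Algebra A X'] (hJ : J * J = ⊥)

/-- The unique lift to a thickening. -/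
noncomputable def ft (hJ : J * J = ⊥) (ρ' : R →ₐ[A] X' ⧸ Jm J X') (hu : IsUnit (ρ' f)) : D.X →ₐ[A] X' :=
  Algebra.FormallySmooth.lift (Jm J X') (isNilpotent_Jm hJ) ((locHom ρ' f hu).comp D.β)

theorem ft_mk (ρ' : R →ₐ[A] X' ⧸ Jm J X') (hu : IsUnit (ρ' f)) (y : D.X) :
    Ideal.Quotient.mk (Jm J X') (D.ft hJ ρ' hu y) = locHom ρ' f hu (D.β y) :=
  Algebra.FormallySmooth.mk_lift _ _ _ y

theorem ft_mk_alg (ρ' : R →ₐ[A] X' ⧸ Jm J X') (hu : IsUnit (ρ' f)) {y : D.X} {r : R}
    (h : D.β y = algebraMap R _ r) : Ideal.Quotient.mk (Jm J X') (D.ft hJ ρ' hu y) = ρ' r := by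
  rw [ft_mk, h, locHom_alg]

theorem ft_unique (ρ' : R →ₐ[A] X' ⧸ Jm J X') (hu : IsUnit (ρ' f)) (F : D.X →ₐ[A] X')
    (h : ∀ (y : D.X) (r : R), D.β y = algebraMap R _ r → Ideal.Quotient.mk (Jm J X') (F y) = ρ' r) :
    F = D.ft hJ ρ' hu := by
  refine ext_lift hJ fun y => ?_
  obtain ⟨n, r, hr⟩ := IsLocalization.Away.surj f (D.β y)
  obtain ⟨z, hz⟩ := D.exists_rep f
  have h1 : D.β (y * z ^ n) = algebraMap R _ r := by rw [map_mul, map_pow, hz, hr]
  have e1 := h _ _ h1
  have e2 := D.ft_mk_alg hJ ρ' hu h1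
  simp only [map_mul, map_pow] at e1 e2
  rw [h _ _ hz] at e1
  rw [D.ft_mk_alg hJ ρ' hu hz] at e2
  exact (hu.pow n).mul_left_injective (e1.trans e2.symm)

theorem ft_self : D.ft hJ D.ρ D.isLocAt.isUnit = AlgHom.id A D.X :=
  (D.ft_unique hJ _ _ _ fun _ _ h => D.mk_eq_ρ h).symm

variable {X'' : Type u} [CommRing X''] [Algebra A X'']

theorem comp_ft (ρ' : R →ₐ[A] X' ⧸ Jm J X') (hu : IsUnit (ρ' f)) (α : X' →ₐ[A] X'')
    (ρ'' : R →ₐ[A] X'' ⧸ Jm J X'') (hu' : IsUnit (ρ'' f)) (h : ∀ r, qmap α (ρ' r) = ρ'' r) :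
    α.comp (D.ft hJ ρ' hu) = D.ft hJ ρ'' hu' :=
  D.ft_unique hJ _ _ _ fun y r hy => by
    rw [AlgHom.comp_apply, ← qmap_mk, D.ft_mk_alg hJ ρ' hu hy, h]

theorem qmap_ft (ρ' : R →ₐ[A] X' ⧸ Jm J X') (hu : IsUnit (ρ' f)) (r : R) :
    qmap (D.ft hJ ρ' hu) (D.ρ r) = ρ' r := by
  obtain ⟨y, hy⟩ := D.exists_rep r
  rw [← D.mk_eq_ρ hy, qmap_mk, D.ft_mk_alg hJ ρ' hu hy]

end LiftData

section Step

variable {X X' : Type u} [CommRing X] [Algebra A X] [CommRing X'] [Algebra A X'] [Algebra X X']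
  [IsScalarTower A X X']

/-- The structure map of a localisation of a thickening. -/
noncomputable def rhoStep (X' : Type u) [CommRing X'] [Algebra A X'] [Algebra X X'] [IsScalarTower A X X']
    (ρ : R →ₐ[A] X ⧸ Jm J X) : R →ₐ[A] X' ⧸ Jm J X' :=
  (qmap (IsScalarTower.toAlgHom A X X')).comp ρ

theorem rhoStep_isUnit (ρ : R →ₐ[A] X ⧸ Jm J X) {r : R} (hr : IsUnit (ρ r)) : IsUnit (rhoStep X' ρ r) :=
  hr.map (qmap (IsScalarTower.toAlgHom A X X'))

theorem rhoStep_isUnit_alg (c : A) [IsLocalization.Away (algebraMap A X c) X'] (ρ : R →ₐ[A] X ⧸ Jm J X) :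
    IsUnit (rhoStep X' ρ (algebraMap A R c)) := by
  rw [AlgHom.commutes]
  have h : IsUnit (algebraMap A X' c) := by
    rw [IsScalarTower.algebraMap_apply A X X']
    exact IsLocalization.Away.algebraMap_isUnit _
  exact h.map (Ideal.Quotient.mk (Jm J X'))

theorem IsLocAt.step {ρ : R →ₐ[A] X ⧸ Jm J X} {f : R} (h : IsLocAt ρ f) (c : A)
    [IsLocalization.Away (algebraMap A X c) X'] : IsLocAt (rhoStep X' ρ) (f * algebraMap A R c) where
  isUnit := by
    rw [map_mul]
    exact (rhoStep_isUnit ρ h.isUnit).mul (rhoStep_isUnit_alg c ρ)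
  surj t := by
    obtain ⟨w, rfl⟩ := Ideal.Quotient.mk_surjective t
    obtain ⟨n, x, hx⟩ := IsLocalization.Away.surj (algebraMap A X c) w
    obtain ⟨r, m, hr⟩ := h.surj (Ideal.Quotient.mk _ x)
    refine ⟨r * f ^ n * algebraMap A R c ^ m, n + m, ?_⟩
    have h1 : Ideal.Quotient.mk (Jm J X') w * rhoStep X' ρ (algebraMap A R c) ^ n * rhoStep X' ρ f ^ m =
        rhoStep X' ρ r := by
      have e1 : rhoStep X' ρ (algebraMap A R c) = Ideal.Quotient.mk (Jm J X') (algebraMap X X' (algebraMap A X c)) := by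
        rw [AlgHom.commutes, ← IsScalarTower.algebraMap_apply]
        rfl
      rw [e1, ← map_pow, ← map_mul, hx, rhoStep, AlgHom.comp_apply, AlgHom.comp_apply, ← hr, map_mul, map_pow]
      rfl
    simp only [map_mul, map_pow, ← h1]
    ring
  ker r hr := by
    obtain ⟨x, hx⟩ := Ideal.Quotient.mk_surjective (ρ r)
    rw [rhoStep, AlgHom.comp_apply, ← hx, qmap_mk, Ideal.Quotient.eq_zero_iff_mem, IsScalarTower.toAlgHom_apply,
      Jm, IsScalarTower.algebraMap_eq A X X', ← Ideal.map_map,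
      IsLocalization.algebraMap_mem_map_algebraMap_iff (Submonoid.powers (algebraMap A X c))] at hr
    obtain ⟨_, ⟨n, rfl⟩, hn⟩ := hr
    have h1 : ρ (algebraMap A R c ^ n * r) = 0 := by
      rw [map_mul, map_pow, AlgHom.commutes, ← hx]
      exact (Ideal.Quotient.eq_zero_iff_mem.2 hn : Ideal.Quotient.mk (Jm J X) ((algebraMap A X c) ^ n * x) = 0)
    obtain ⟨m, hm⟩ := h.ker _ h1
    refine ⟨m + n, ?_⟩
    calc (f * algebraMap A R c) ^ (m + n) * r = f ^ n * algebraMap A R c ^ m * (f ^ m * (algebraMap A R c ^ n * r)) := by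
          rw [mul_pow, pow_add, pow_add]; ring
      _ = 0 := by rw [hm, mul_zero]

end Step

section Kappa

variable {T : Type u} [CommRing T] [Algebra A T] [Algebra R T] [IsScalarTower A R T]
  {Y : Type u} [CommRing Y] [Algebra A Y] (ρY : T →ₐ[A] Y ⧸ Jm J Y) {f : R}

/-- The restriction of a structure map along `R → T`. -/
noncomputable abbrev resT : R →ₐ[A] Y ⧸ Jm J Y := ρY.comp (IsScalarTower.toAlgHom A R T)

/-- `T ⊗_R R_f → Y / J Y`. -/
noncomputable def kap (hu : IsUnit (resT (R := R) ρY f)) : T ⊗[R] Localization.Away f →ₐ[A] Y ⧸ Jm J Y :=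
  letI : Algebra R (Y ⧸ Jm J Y) := (resT (R := R) ρY).toRingHom.toAlgebra
  haveI : IsScalarTower A R (Y ⧸ Jm J Y) := IsScalarTower.of_algebraMap_eq fun a => ((resT (R := R) ρY).commutes a).symm
  (Algebra.TensorProduct.lift ({ ρY.toRingHom with commutes' := fun _ => rfl } : T →ₐ[R] Y ⧸ Jm J Y)
    ({ (locHom (resT (R := R) ρY) f hu).toRingHom with
        commutes' := fun r => locHom_alg _ _ hu r } : Localization.Away f →ₐ[R] Y ⧸ Jm J Y)
    fun _ _ => Commute.all _ _).restrictScalars A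

theorem kap_tmul (hu : IsUnit (resT (R := R) ρY f)) (c : T) (l : Localization.Away f) :
    kap ρY hu (c ⊗ₜ l) = ρY c * locHom (resT (R := R) ρY) f hu l := rfl

theorem kap_bijective (h : IsLocAt ρY (algebraMap R T f)) (hu : IsUnit (resT (R := R) ρY f)) :
    Function.Bijective (kap ρY hu) := by
  have hone : ∀ z : T ⊗[R] Localization.Away f, ∃ (c : T) (n : ℕ),
      z * (1 ⊗ₜ algebraMap R (Localization.Away f) f) ^ n = c ⊗ₜ 1 := by
    intro z
    induction z with
    | zero => exact ⟨0, 0, by simp⟩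
    | add a b ha hb =>
      obtain ⟨c, n, hc⟩ := ha
      obtain ⟨d, m, hd⟩ := hb
      refine ⟨c * algebraMap R T f ^ m + d * algebraMap R T f ^ n, n + m, ?_⟩
      have e : ((1 : T) ⊗ₜ[R] algebraMap R (Localization.Away f) f) = algebraMap R T f ⊗ₜ 1 := by
        rw [Algebra.algebraMap_eq_smul_one, ← TensorProduct.smul_tmul, ← Algebra.algebraMap_eq_smul_one]
      rw [add_mul, pow_add, ← mul_assoc, hc, mul_comm ((1 ⊗ₜ algebraMap R _ f) ^ n) ((1 ⊗ₜ algebraMap R _ f) ^ m),
        ← mul_assoc, hd, TensorProduct.add_tmul, e, Algebra.TensorProduct.tmul_pow, Algebra.TensorProduct.tmul_pow,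
        Algebra.TensorProduct.tmul_mul_tmul, Algebra.TensorProduct.tmul_mul_tmul, one_pow, mul_one]
      simp
    | tmul c l =>
      obtain ⟨n, r, hr⟩ := IsLocalization.Away.surj f l
      refine ⟨c * algebraMap R T r, n, ?_⟩
      rw [Algebra.TensorProduct.tmul_pow, one_pow, Algebra.TensorProduct.tmul_mul_tmul, mul_one, hr,
        Algebra.algebraMap_eq_smul_one, ← TensorProduct.smul_tmul, Algebra.smul_def, mul_comm]
  constructor
  · rw [injective_iff_map_eq_zero]
    intro z hz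
    obtain ⟨c, n, hc⟩ := hone z
    have h1 := congrArg (fun x => kap ρY hu x) hc
    simp only [map_mul, hz, zero_mul] at h1
    rw [kap_tmul, map_one, mul_one] at h1
    obtain ⟨m, hm⟩ := h.ker c h1.symm
    have hu' : IsUnit ((1 : T) ⊗ₜ[R] algebraMap R (Localization.Away f) f) :=
      (IsLocalization.Away.algebraMap_isUnit f).map
        (Algebra.TensorProduct.includeRight : Localization.Away f →ₐ[R] T ⊗[R] Localization.Away f)
    apply (hu'.pow (n + m)).mul_left_eq_zero.1
    rw [pow_add, ← mul_assoc, hc, Algebra.TensorProduct.tmul_pow, one_pow, Algebra.TensorProduct.tmul_mul_tmul,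
      one_mul, mul_one, ← map_pow, Algebra.algebraMap_eq_smul_one, ← TensorProduct.smul_tmul, Algebra.smul_def,
      map_pow, hm, TensorProduct.zero_tmul]
  · intro t
    obtain ⟨c, n, hc⟩ := h.surj t
    refine ⟨c ⊗ₜ (IsLocalization.Away.invSelf (S := Localization.Away f) f ^ n), ?_⟩
    refine (kap_tmul ρY hu c (IsLocalization.Away.invSelf (S := Localization.Away f) f ^ n)).trans ?_
    rw [ ← hc, mul_assoc, map_pow, ← mul_pow,
      show ρY (algebraMap R T f) = locHom (resT (R := R) ρY) f hu (algebraMap R (Localization.Away f) f) from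
        (locHom_alg (resT (R := R) ρY) f hu f).symm,
      ← map_mul, IsLocalization.Away.mul_invSelf, map_one, one_pow, mul_one]

variable (hJ : J * J = ⊥)

/-- `T ⊗_R (R_f ⊗ J) → Y`. -/
noncomputable def kapJ (hu : IsUnit (resT (R := R) ρY f)) :
    T ⊗[R] (Localization.Away f ⊗[A] J) →ₗ[A] Y :=
  muL hJ (kap ρY hu) ∘ₗ
    ((TensorProduct.AlgebraTensorModule.assoc A R R T (Localization.Away f) J).symm.restrictScalars A).toLinearMap

theorem kapJ_tmul (hu : IsUnit (resT (R := R) ρY f)) (c : T) (q : Localization.Away f ⊗[A] J) (y : Y)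
    (hy : Ideal.Quotient.mk (Jm J Y) y = ρY c) :
    kapJ ρY hJ hu (c ⊗ₜ q) = y * muL hJ (locHom (resT (R := R) ρY) f hu) q := by
  induction q with
  | zero => simp
  | add a b ha hb => rw [TensorProduct.tmul_add, map_add, ha, hb, map_add, mul_add]
  | tmul l j =>
    obtain ⟨x, hx⟩ := Ideal.Quotient.mk_surjective (locHom (resT (R := R) ρY) f hu l)
    rw [muL_tmul hJ _ l j x hx, kapJ, LinearMap.comp_apply]
    refine (muL_tmul hJ (kap ρY hu) (c ⊗ₜ l) j (y * x) (by rw [map_mul, hy, hx, kap_tmul])).trans ?_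
    rw [mul_smul_comm]

theorem kapJ_injective [Module.Flat A Y] (h : IsLocAt ρY (algebraMap R T f)) (hu : IsUnit (resT (R := R) ρY f)) :
    Function.Injective (kapJ ρY hJ hu) :=
  (muL_injective hJ _ (kap_bijective ρY h hu)).comp (LinearEquiv.injective _)

theorem kapJ_surjective (h : IsLocAt ρY (algebraMap R T f)) (hu : IsUnit (resT (R := R) ρY f)) {y : Y}
    (hy : y ∈ Jm J Y) : ∃ z, kapJ ρY hJ hu z = y := by
  obtain ⟨q, rfl⟩ := muL_surjective hJ _ (kap_bijective ρY h hu).2 hy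
  exact ⟨(TensorProduct.AlgebraTensorModule.assoc A R R T (Localization.Away f) J) q, by simp [kapJ]⟩

end Kappa

end Groth.Agent.EtaleGlueLib
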