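import Mathlib.RingTheory.Etale.Basic
import Mathlib.RingTheory.Smooth.Basic
import Mathlib.RingTheory.Unramified.Basic
import Mathlib.RingTheory.Flat.Basic
import Mathlib.RingTheory.Localization.Away.Basic
import Mathlib.RingTheory.Localization.Ideal
import Mathlib.RingTheory.Localization.BaseChange
import Mathlib.RingTheory.Ideal.Quotient.Operations
import Mathlib.RingTheory.TensorProduct.Maps
import Mathlib.RingTheory.TensorProduct.Quotient
import Mathlib.LinearAlgebra.TensorProduct.Tower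
import Mathlib.LinearAlgebra.TensorProduct.RightExactness
import Mathlib.LinearAlgebra.Quotient.Basic
import Mathlib.RingTheory.Ideal.Maps

/-! Square-zero tools: `J ⊗ X̄ → X`, torsion lemmas, localisations modulo `J`. -/

set_option autoImplicit false
set_option linter.style.haveILetI false
set_option linter.unusedSectionVars false
open scoped TensorProduct

universe u

namespace Groth.Agent.EtaleGlueLib

variable {A : Type u} [CommRing A] (J : Ideal A)

/-- `J X`. -/
abbrev Jm (X : Type u) [CommRing X] [Algebra A X] : Ideal X := J.map (algebraMap A X)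

section Basic

variable {J} {X : Type u} [CommRing X] [Algebra A X] (hJ : J * J = ⊥)

include hJ in
theorem mul_eq_zero_of_mem {x y : X} (hx : x ∈ Jm J X) (hy : y ∈ Jm J X) : x * y = 0 := by
  have h := Ideal.mul_mem_mul hx hy
  rwa [← Ideal.map_mul, hJ, Ideal.map_bot, Ideal.mem_bot] at h

include hJ in
theorem isNilpotent_Jm : IsNilpotent (Jm J X) := by
  refine ⟨2, ?_⟩
  rw [pow_two, ← Ideal.map_mul, hJ, Ideal.map_bot]
  rfl

include hJ in
theorem smul_eq_zero_of_mem {x : X} (hx : x ∈ Jm J X) (j : J) : (j : A) • x = 0 := by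
  rw [Algebra.smul_def]
  exact mul_eq_zero_of_mem hJ (Ideal.mem_map_of_mem _ j.2) hx

include hJ in
theorem isUnit_of_mk {x : X} (hx : IsUnit (Ideal.Quotient.mk (Jm J X) x)) : IsUnit x := by
  obtain ⟨y, hy⟩ := hx.exists_right_inv
  obtain ⟨y, rfl⟩ := Ideal.Quotient.mk_surjective y
  rw [← map_mul, ← map_one (Ideal.Quotient.mk (Jm J X)), Ideal.Quotient.eq] at hy
  refine IsUnit.of_mul_eq_one (a := x) (y * (2 - x * y)) ?_
  have h := mul_eq_zero_of_mem hJ hy hy
  linear_combination -h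

include hJ in
theorem ext_lift {Y : Type u} [CommRing Y] [Algebra A Y] [Algebra.FormallyUnramified A Y] {f g : Y →ₐ[A] X}
    (h : ∀ y, Ideal.Quotient.mk (Jm J X) (f y) = Ideal.Quotient.mk (Jm J X) (g y)) : f = g :=
  Algebra.FormallyUnramified.ext (Jm J X) (isNilpotent_Jm hJ) h

theorem mk_out (x : X ⧸ Jm J X) : Ideal.Quotient.mk (Jm J X) (Quotient.out x) = x := Quotient.out_eq x

/-- Multiplication `(X / J X) ⊗ J → X`. -/
noncomputable def mu : (X ⧸ Jm J X) ⊗[A] J →ₗ[A] X :=
  TensorProduct.lift <| LinearMap.mk₂ A (fun x (j : J) => (j : A) • Quotient.out x)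
    (fun x y j => by
      rw [← sub_eq_zero, ← smul_add, ← smul_sub]
      refine smul_eq_zero_of_mem hJ ((Ideal.Quotient.eq).1 ?_) j
      rw [map_add, mk_out, mk_out, mk_out])
    (fun c x j => by
      rw [← sub_eq_zero, smul_comm c (j : A), ← smul_sub]
      refine smul_eq_zero_of_mem hJ ((Ideal.Quotient.eq).1 ?_) j
      rw [mk_out, ← Ideal.Quotient.mkₐ_eq_mk A, map_smul, Ideal.Quotient.mkₐ_eq_mk, mk_out])
    (fun x j j' => by simp [add_smul])
    (fun c x j => by simp [mul_smul])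

theorem mu_mk (x : X) (j : J) : mu hJ (Ideal.Quotient.mk (Jm J X) x ⊗ₜ j) = (j : A) • x := by
  rw [mu, TensorProduct.lift.tmul, LinearMap.mk₂_apply, ← sub_eq_zero, ← smul_sub]
  exact smul_eq_zero_of_mem hJ ((Ideal.Quotient.eq).1 (Quotient.out_eq _)) j

theorem mu_mem (z : (X ⧸ Jm J X) ⊗[A] J) : mu hJ z ∈ Jm J X := by
  induction z with
  | zero => simp
  | add a b ha hb => rw [map_add]; exact add_mem ha hb
  | tmul x j =>
    obtain ⟨x, rfl⟩ := Ideal.Quotient.mk_surjective x
    rw [mu_mk, Algebra.smul_def]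
    exact Ideal.mul_mem_right _ _ (Ideal.mem_map_of_mem _ j.2)

theorem mu_surjective {x : X} (hx : x ∈ Jm J X) : ∃ z, mu hJ z = x := by
  induction hx using Submodule.span_induction with
  | mem y hy =>
    obtain ⟨j, hj, rfl⟩ := hy
    exact ⟨Ideal.Quotient.mk _ 1 ⊗ₜ ⟨j, hj⟩, by rw [mu_mk, Algebra.algebraMap_eq_smul_one]⟩
  | zero => exact ⟨0, map_zero _⟩
  | add a b _ _ ha hb =>
    obtain ⟨z, rfl⟩ := ha
    obtain ⟨w, rfl⟩ := hb
    exact ⟨z + w, map_add _ _ _⟩
  | smul c a _ ha =>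
    obtain ⟨z, rfl⟩ := ha
    suffices key : ∀ z : (X ⧸ Jm J X) ⊗[A] J, ∃ w, mu hJ w = c • mu hJ z from key z
    intro z
    induction z with
    | zero => exact ⟨0, by simp⟩
    | add p q hp hq =>
      obtain ⟨z, hz⟩ := hp
      obtain ⟨w, hw⟩ := hq
      exact ⟨z + w, by rw [map_add, map_add, hz, hw, smul_add]⟩
    | tmul y j =>
      obtain ⟨y, rfl⟩ := Ideal.Quotient.mk_surjective y
      exact ⟨Ideal.Quotient.mk _ (c * y) ⊗ₜ j, by rw [mu_mk, mu_mk, smul_eq_mul, mul_smul_comm]⟩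

theorem mu_injective [Module.Flat A X] : Function.Injective (mu (X := X) hJ) := by
  have hs : Function.Surjective (LinearMap.rTensor J (Ideal.Quotient.mkₐ A (Jm J X)).toLinearMap) :=
    LinearMap.rTensor_surjective J Ideal.Quotient.mk_surjective
  have hcomp : mu hJ ∘ₗ LinearMap.rTensor J (Ideal.Quotient.mkₐ A (Jm J X)).toLinearMap =
      (TensorProduct.rid A X).toLinearMap ∘ₗ LinearMap.lTensor X J.subtype :=
    TensorProduct.ext' fun x j => (mu_mk hJ x j).trans (by simp)
  have hinj : Function.Injective (mu hJ ∘ₗ LinearMap.rTensor J (Ideal.Quotient.mkₐ A (Jm J X)).toLinearMap) := by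
    rw [hcomp]
    exact (TensorProduct.rid A X).injective.comp
      (Module.Flat.lTensor_preserves_injective_linearMap J.subtype Subtype.val_injective)
  intro a b hab
  obtain ⟨a, rfl⟩ := hs a
  obtain ⟨b, rfl⟩ := hs b
  rw [hinj (show (mu hJ ∘ₗ _) a = (mu hJ ∘ₗ _) b from hab)]

variable {X' : Type u} [CommRing X'] [Algebra A X']

/-- The map modulo `J`. -/
noncomputable def qmap (α : X →ₐ[A] X') : (X ⧸ Jm J X) →ₐ[A] (X' ⧸ Jm J X') :=
  Ideal.quotientMapₐ (Jm J X') α (by
    rw [Ideal.map_le_iff_le_comap]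
    intro j hj
    rw [Ideal.mem_comap, Ideal.mem_comap]
    exact (α.commutes j).symm ▸ Ideal.mem_map_of_mem _ hj)

theorem qmap_mk (α : X →ₐ[A] X') (x : X) :
    qmap α (Ideal.Quotient.mk (Jm J X) x) = Ideal.Quotient.mk (Jm J X') (α x) := rfl

theorem mu_natural (α : X →ₐ[A] X') (z : (X ⧸ Jm J X) ⊗[A] J) :
    α (mu hJ z) = mu hJ (LinearMap.rTensor J (qmap α).toLinearMap z) := by
  induction z with
  | zero => simp
  | add a b ha hb => simp [ha, hb]
  | tmul x j =>
    obtain ⟨x, rfl⟩ := Ideal.Quotient.mk_surjective x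
    rw [mu_mk, LinearMap.rTensor_tmul, AlgHom.toLinearMap_apply, qmap_mk, mu_mk, map_smul]

variable {L L' : Type u} [CommRing L] [Algebra A L] [CommRing L'] [Algebra A L']

/-- `L ⊗ J → X` along `φ : L → X / J X`. -/
noncomputable def muL (φ : L →ₐ[A] X ⧸ Jm J X) : L ⊗[A] J →ₗ[A] X :=
  mu hJ ∘ₗ LinearMap.rTensor J φ.toLinearMap

theorem muL_mem (φ : L →ₐ[A] X ⧸ Jm J X) (q : L ⊗[A] J) : muL hJ φ q ∈ Jm J X := mu_mem hJ _

theorem muL_tmul (φ : L →ₐ[A] X ⧸ Jm J X) (l : L) (j : J) (x : X)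
    (hx : Ideal.Quotient.mk (Jm J X) x = φ l) : muL hJ φ (l ⊗ₜ j) = (j : A) • x := by
  rw [muL, LinearMap.comp_apply, LinearMap.rTensor_tmul, AlgHom.toLinearMap_apply, ← hx, mu_mk]

theorem muL_natural (α : X →ₐ[A] X') (φ : L →ₐ[A] X ⧸ Jm J X) (φ' : L' →ₐ[A] X' ⧸ Jm J X') (ψ : L →ₐ[A] L')
    (h : ∀ l, qmap α (φ l) = φ' (ψ l)) (q : L ⊗[A] J) :
    α (muL hJ φ q) = muL hJ φ' (LinearMap.rTensor J ψ.toLinearMap q) := by
  simp only [muL, LinearMap.comp_apply]
  rw [mu_natural, ← LinearMap.rTensor_comp_apply, ← LinearMap.rTensor_comp_apply,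
    show (qmap α).toLinearMap ∘ₗ φ.toLinearMap = φ'.toLinearMap ∘ₗ ψ.toLinearMap from LinearMap.ext h]

theorem muL_injective [Module.Flat A X] (φ : L →ₐ[A] X ⧸ Jm J X) (hφ : Function.Bijective φ) :
    Function.Injective (muL hJ φ) :=
  (mu_injective hJ).comp (LinearEquiv.rTensor J (LinearEquiv.ofBijective φ.toLinearMap hφ)).injective

theorem muL_surjective (φ : L →ₐ[A] X ⧸ Jm J X) (hφ : Function.Surjective φ) {x : X} (hx : x ∈ Jm J X) :
    ∃ q, muL hJ φ q = x := by
  obtain ⟨z, rfl⟩ := mu_surjective hJ hx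
  obtain ⟨q, rfl⟩ := LinearMap.rTensor_surjective J (show Function.Surjective φ.toLinearMap from hφ) z
  exact ⟨q, rfl⟩

end Basic

section Torsion

variable {R T : Type u} [CommRing R] [CommRing T] [Algebra R T] {ι : Type*} [Fintype ι] (f : ι → R)
  (hsurj : ∀ c : T, ∃ b : R, c - algebraMap R T b ∈ (Ideal.span (Set.range f)).map (algebraMap R T))
  (hinj : ∀ b : R, algebraMap R T b ∈ (Ideal.span (Set.range f)).map (algebraMap R T) → b ∈ Ideal.span (Set.range f))
  {M : Type u} [AddCommGroup M] [Module R M]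

include hsurj in
theorem exists_sub_mem_pow (k : ℕ) (c : T) :
    ∃ b : R, c - algebraMap R T b ∈ (Ideal.span (Set.range f) ^ k).map (algebraMap R T) := by
  induction k generalizing c with
  | zero => exact ⟨0, by simp [Ideal.map_top]⟩
  | succ k ih =>
    obtain ⟨b, hb⟩ := ih c
    have key : ∀ d ∈ (Ideal.span (Set.range f) ^ k).map (algebraMap R T), ∃ b' ∈ Ideal.span (Set.range f) ^ k,
        d - algebraMap R T b' ∈ (Ideal.span (Set.range f) ^ (k + 1)).map (algebraMap R T) := by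
      intro d hd
      induction hd using Submodule.span_induction with
      | mem y hy =>
        obtain ⟨a, ha, rfl⟩ := hy
        exact ⟨a, ha, by simp⟩
      | zero => exact ⟨0, zero_mem _, by simp⟩
      | add a b _ _ ha hb =>
        obtain ⟨p, hp, hp'⟩ := ha
        obtain ⟨q, hq, hq'⟩ := hb
        refine ⟨p + q, add_mem hp hq, ?_⟩
        convert add_mem hp' hq' using 1
        rw [map_add]; ring
      | smul t a _ ha =>
        obtain ⟨p, hp, hp'⟩ := ha
        obtain ⟨q, hq⟩ := hsurj t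
        refine ⟨q * p, Ideal.mul_mem_left _ _ hp, ?_⟩
        have h1 : (t - algebraMap R T q) * algebraMap R T p ∈
            (Ideal.span (Set.range f) ^ (k + 1)).map (algebraMap R T) := by
          rw [pow_succ', Ideal.map_mul]
          exact Ideal.mul_mem_mul hq (Ideal.mem_map_of_mem _ hp)
        convert add_mem (Ideal.mul_mem_left _ t hp') h1 using 1
        rw [smul_eq_mul, map_mul]; ring
    obtain ⟨b', -, hb'⟩ := key _ hb
    exact ⟨b + b', by rw [map_add, ← sub_sub]; exact hb'⟩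

theorem exists_pow_le_annihilator (x : M) (hx : ∀ i, ∃ n : ℕ, f i ^ n • x = 0) :
    ∃ N : ℕ, Ideal.span (Set.range f) ^ N ≤ LinearMap.ker (LinearMap.toSpanSingleton R M x) := by
  refine Ideal.exists_pow_le_of_le_radical_of_fg (Ideal.span_le.2 ?_) (Submodule.fg_span (Set.finite_range f))
  rintro _ ⟨i, rfl⟩
  obtain ⟨n, hn⟩ := hx i
  exact ⟨n, LinearMap.mem_ker.2 hn⟩

include hsurj in
theorem exists_one_tmul (hM : ∀ (x : M) (i : ι), ∃ n : ℕ, f i ^ n • x = 0) (z : T ⊗[R] M) :
    ∃ m : M, z = 1 ⊗ₜ m := by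
  induction z with
  | zero => exact ⟨0, by simp⟩
  | add a b ha hb =>
    obtain ⟨p, rfl⟩ := ha
    obtain ⟨q, rfl⟩ := hb
    exact ⟨p + q, (TensorProduct.tmul_add _ _ _).symm⟩
  | tmul c m =>
    obtain ⟨N, hN⟩ := exists_pow_le_annihilator f m (hM m)
    obtain ⟨b, hb⟩ := exists_sub_mem_pow f hsurj N c
    refine ⟨b • m, ?_⟩
    rw [← TensorProduct.smul_tmul, ← Algebra.algebraMap_eq_smul_one, ← sub_eq_zero, ← TensorProduct.sub_tmul]
    revert hb
    generalize c - algebraMap R T b = d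
    intro hd
    induction hd using Submodule.span_induction with
    | mem y hy =>
      obtain ⟨a, ha, rfl⟩ := hy
      have h0 : a • m = 0 := LinearMap.mem_ker.1 (hN ha)
      rw [Algebra.algebraMap_eq_smul_one, TensorProduct.smul_tmul, h0, TensorProduct.tmul_zero]
    | zero => simp
    | add a b _ _ ha hb => rw [TensorProduct.add_tmul, ha, hb, add_zero]
    | smul t a _ ha => rw [← TensorProduct.smul_tmul', ha, smul_zero]

include hsurj hinj in
theorem eq_zero_of_one_tmul [Module.Flat R T] (x : M) (hx : ∀ i, ∃ n : ℕ, f i ^ n • x = 0)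
    (h : (1 : T) ⊗ₜ[R] x = 0) : x = 0 := by
  set 𝔞 : Ideal R := LinearMap.ker (LinearMap.toSpanSingleton R M x)
  obtain ⟨N, hN⟩ := exists_pow_le_annihilator f x hx
  have h1 : (1 : T) ∈ 𝔞.map (algebraMap R T) := by
    have hi : Function.Injective (LinearMap.lTensor T (𝔞.liftQ (LinearMap.toSpanSingleton R M x) le_rfl)) :=
      Module.Flat.lTensor_preserves_injective_linearMap _
        (LinearMap.ker_eq_bot.1 (Submodule.ker_liftQ_eq_bot _ _ _ le_rfl))
    have h2 : (1 : T) ⊗ₜ[R] (Submodule.Quotient.mk 1 : R ⧸ 𝔞) = 0 := by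
      apply hi
      rw [LinearMap.lTensor_tmul, map_zero, Submodule.liftQ_apply]
      simpa using h
    have h3 := congrArg (Algebra.TensorProduct.quotIdealMapEquivTensorQuot T 𝔞).symm h2
    rw [map_zero] at h3
    have h4 : (Algebra.TensorProduct.quotIdealMapEquivTensorQuot T 𝔞).symm
        ((1 : T) ⊗ₜ[R] (Submodule.Quotient.mk 1 : R ⧸ 𝔞)) = 1 := by
      rw [AlgEquiv.symm_apply_eq, map_one]
      rfl
    rw [h4, ← map_one (Ideal.Quotient.mk (𝔞.map (algebraMap R T))), Ideal.Quotient.eq_zero_iff_mem] at h3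
    exact h3
  have h5 : ∀ t ∈ 𝔞.map (algebraMap R T), ∃ b ∈ 𝔞, t - algebraMap R T b ∈
      (Ideal.span (Set.range f)).map (algebraMap R T) := by
    intro t ht
    induction ht using Submodule.span_induction with
    | mem y hy =>
      obtain ⟨a, ha, rfl⟩ := hy
      exact ⟨a, ha, by simp⟩
    | zero => exact ⟨0, zero_mem _, by simp⟩
    | add a b _ _ ha hb =>
      obtain ⟨p, hp, hp'⟩ := ha
      obtain ⟨q, hq, hq'⟩ := hb
      refine ⟨p + q, add_mem hp hq, ?_⟩
      convert add_mem hp' hq' using 1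
      rw [map_add]; ring
    | smul t a _ ha =>
      obtain ⟨p, hp, hp'⟩ := ha
      obtain ⟨q, hq⟩ := hsurj t
      refine ⟨q * p, Ideal.mul_mem_left _ _ hp, ?_⟩
      convert add_mem (Ideal.mul_mem_left _ t hp') (Ideal.mul_mem_right (algebraMap R T p) _ hq) using 1
      rw [smul_eq_mul, map_mul]; ring
  obtain ⟨b, hb, hb1⟩ := h5 1 h1
  have h6 : (1 : R) - b ∈ Ideal.span (Set.range f) := hinj _ (by rwa [map_sub, map_one])
  have h7 : 𝔞 ⊔ Ideal.span (Set.range f) = ⊤ := by
    rw [Ideal.eq_top_iff_one, Submodule.mem_sup]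
    exact ⟨b, hb, 1 - b, h6, add_sub_cancel _ _⟩
  have h8 : 𝔞 = ⊤ := by
    have h9 := Ideal.sup_pow_eq_top (n := N) h7
    rwa [sup_eq_left.2 hN] at h9
  have h9 : (1 : R) ∈ 𝔞 := h8 ▸ Submodule.mem_top
  simpa [𝔞] using h9

/-- Componentwise vanishing in a tensor product with a finite product. -/
theorem eq_zero_of_proj {κ : Type*} [Fintype κ] [DecidableEq κ] (P : κ → Type u) [∀ k, AddCommGroup (P k)]
    [∀ k, Module R (P k)] (z : T ⊗[R] (∀ k, P k)) (h : ∀ k, LinearMap.lTensor T (LinearMap.proj k) z = 0) :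
    z = 0 := by
  have e : (LinearMap.id : (∀ k, P k) →ₗ[R] (∀ k, P k)) =
      ∑ k, LinearMap.single R P k ∘ₗ LinearMap.proj k := by
    refine LinearMap.ext fun v => ?_
    simp [Finset.univ_sum_single]
  rw [show z = LinearMap.lTensor T LinearMap.id z by rw [LinearMap.lTensor_id]; rfl, e,
    ← LinearMap.coe_lTensorHom, map_sum, LinearMap.sum_apply]
  exact Finset.sum_eq_zero fun k _ => by
    rw [LinearMap.coe_lTensorHom, LinearMap.lTensor_comp, LinearMap.comp_apply, h k, map_zero]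

end Torsion

end Groth.Agent.EtaleGlueLib
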